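import Cfsg.Agent.Six.Ext
import Cfsg.Agent.Six.LocStep
import Cfsg.Agent.FT.BG4.Elem
import Cfsg.Agent.Solv.FpfSolvable
import Cfsg.Agent.Solv.Quaternion
import Cfsg.Agent.Solv.Nilpotent
import Cfsg.Agent.Solv.FpfThompson
import Cfsg.Agent.Inst.S0108
import Cfsg.Agent.Rank2.QuatSylow

/-! Solvable groups with element orders one to six. -/

set_option autoImplicit false
set_option linter.unusedSectionVars false

namespace Cfsg.Lib.Ord6

open Subgroup Cfsg.Lib.Solv
open scoped Pointwise commutatorElement MatrixGroups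

universe u

variable {G : Type u} [Group G] [Finite G]

theorem Six.not_sq_dvd (h : Six G) {p : ℕ} (hp : p.Prime) (h3 : 3 ≤ p) {N : Subgroup G} [N.Normal]
    (h0 : N ≠ ⊥) (hcop : (Nat.card N).Coprime p)
    (hf : ∀ a : G, orderOf a = p → N ⊓ centralizer {a} = ⊥) : ¬ p ^ 2 ∣ Nat.card G := fun hd => by
  have := Fact.mk hp
  obtain ⟨E, hE⟩ := Sylow.exists_subgroup_card_pow_prime p hd
  have hE' := fun a ha => h.pow_prime_of_mem hp h3 (IsPGroup.of_card hE) (g := a) ha
  have : IsMulCommutative E := IsPGroup.isMulCommutative_of_card_eq_prime_sq hE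
  obtain ⟨a, ha, ha1, h1⟩ := Coprime.exists_inf_centralizer_singleton_ne_bot (A := E) (K := N)
    (fun hc => by
      obtain ⟨g, hg⟩ := isCyclic_iff_exists_orderOf_eq_natCard.1 hc
      have h1 := Nat.le_of_dvd hp.pos (orderOf_dvd_of_pow_eq_one (hE' g g.2))
      rw [orderOf_coe, hg, hE] at h1
      nlinarith)
    le_normalizer_of_normal (hE ▸ Nat.Coprime.pow_left 2 hcop.symm) h0
  exact h1 (hf a (orderOf_eq_prime (hE' a ha) ha1))

theorem Six.le_three (h : Six G) (h5 : ¬ 5 ∣ Nat.card G) (h9 : ¬ 3 ^ 2 ∣ Nat.card G) {n : ℕ}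
    (hn : n ∣ Nat.card G) (h2 : ¬ 2 ∣ n) : n = 1 ∨ n = 3 := by
  have h1 := Nat.eq_prime_pow_of_unique_prime_dvd (n := n) (p := 3)
    (ne_zero_of_dvd_ne_zero Nat.card_pos.ne' hn) fun {p} hp hd => by
      rcases h.prime_cases hp (hd.trans hn) with rfl | rfl | rfl
      · exact absurd hd h2
      · rfl
      · exact absurd (hd.trans hn) h5
  generalize n.primeFactorsList.length = k at h1
  rcases k with _ | _ | k
  · exact Or.inl h1
  · exact Or.inr h1
  · exact absurd ((pow_dvd_pow 3 (by omega)).trans (h1 ▸ hn)) h9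

theorem mem_zpowers_three {y x : G} (hy : y ^ 3 = 1) (hx : x ∈ zpowers y) :
    x = 1 ∨ x = y ∨ x = y⁻¹ := by
  obtain ⟨k, rfl⟩ := (mem_powers_iff_mem_zpowers.2 hx)
  have h1 : y ^ k = y ^ (k % 3) := pow_eq_pow_mod k hy
  have h2 : k % 3 < 3 := Nat.mod_lt _ (by norm_num)
  change y ^ k = 1 ∨ y ^ k = y ∨ y ^ k = y⁻¹
  rw [h1]
  generalize k % 3 = j at h2
  interval_cases j
  · exact Or.inl (pow_zero y)
  · exact Or.inr (Or.inl (pow_one y))
  · exact Or.inr (Or.inr (eq_inv_of_mul_eq_one_left (by rw [← pow_succ, hy])))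

theorem Six.complement (h : Six G) (h5 : ¬ 5 ∣ Nat.card G) (h9 : ¬ 3 ^ 2 ∣ Nat.card G) {z : G}
    (hz : z * z = 1) (hu : ∀ t : G, t * t = 1 → t = 1 ∨ t = z) {s : G}
    (hs : orderOf s = 4) (h3 : 3 ∣ Nat.card G) :
    Nonempty (G ≃* QuaternionGroup 3) ∨ Nonempty (G ≃* SL(2, ZMod 3)) := by
  have := Fact.mk Nat.prime_two
  have := Fact.mk Nat.prime_three
  have := h.isSolvable_of_not_five h5
  have hs4 : s * s * (s * s) = 1 := by
    rw [← pow_two, ← pow_two, ← pow_mul, ← orderOf_dvd_iff_pow_eq_one, hs]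
  have hs2 : s * s ≠ 1 := fun e => by
    rw [← pow_two, ← orderOf_dvd_iff_pow_eq_one, hs] at e
    omega
  have hsz : s * s = z := (hu _ hs4).resolve_left hs2
  have hz1 : z ≠ 1 := hsz ▸ hs2
  have hzc : ∀ g : G, g * z = z * g := fun g => mul_inv_eq_iff_eq_mul.1
    ((hu (g * z * g⁻¹) (by rw [conj_mul, hz]; simp)).resolve_left (by simpa using hz1))
  by_cases hO : oddCore G = ⊥
  · right
    obtain ⟨y, hy⟩ := exists_prime_orderOf_dvd_card' 3 h3
    have : Nontrivial (pResidual 2 G) := (nontrivial_iff_ne_bot _).2 fun e => by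
      have h1 := Trans.mem_pResidual_of_coprime (p := 2) (g := y) (by rw [hy]; norm_num)
      rw [e, mem_bot] at h1
      simp [h1] at hy
    obtain ⟨e⟩ := Rank2.solvable_uInv (G := pResidual 2 G)
      (pPrimeCore_eq_bot_of_isSubnormal (Normal.isSubnormal inferInstance) hO)
      (Rank2.UInv.subgroup (fun _ _ a _ b _ ha hb ha2 hb2 =>
        ((hu a ((pow_two a).symm.trans ha2)).resolve_left ha).trans
          ((hu b ((pow_two b).symm.trans hb2)).resolve_left hb).symm) _) Trans.pResidual_pResidual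
    obtain ⟨S, hS⟩ := (PG.isPGroup_zpowers (p := 2) (x := s) (k := 2)
      (by rw [← orderOf_dvd_iff_pow_eq_one, hs]; norm_num)).exists_le_sylow
    have hsS : s ∈ (S : Subgroup G) := hS (mem_zpowers s)
    have hsq : ∀ g ∈ (S : Subgroup G), g * g = 1 ∨ g * g = z := fun g hg => hu _ (by
      rw [← pow_two, ← pow_two, ← pow_mul]; exact h.pow_four_of_mem S.isPGroup' hg)
    have hsq' : ∀ g ∈ (S : Subgroup G), g * g ∈ zpowers z := fun g hg => by
      rcases hsq g hg with e | e <;> simp [e]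
    have h1 := FT.BG4.card_le_card_mul_card_inf_centralizer (H := S) (S := zpowers z) (v := s)
      fun a ha => by
        have h1 : ⁅a, s⁆ = a * s * (a * s) * (s⁻¹ * (a⁻¹ * a⁻¹) * s) * (s⁻¹ * s⁻¹) := by
          rw [commutatorElement_def]; group
        rw [h1]
        refine mul_mem (mul_mem (hsq' _ (mul_mem ha hsS)) ?_) (hsq' _ (inv_mem hsS))
        rcases hsq _ (inv_mem ha) with e | e
        · simp [e]
        · rw [e, hzc]; simp
    have h2 : (S : Subgroup G) ⊓ centralizer {s} ≤ zpowers s := fun w hw => by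
      have hzs : z ∈ zpowers s := hsz ▸ mul_mem (mem_zpowers s) (mem_zpowers s)
      have h2 : ∀ t : G, t * t = 1 → t ∈ zpowers s := fun t ht => by
        rcases hu t ht with e | e <;> simp [e, hzs]
      rcases hsq w hw.1 with e | e
      · exact h2 w e
      · refine (mul_mem_cancel_right (mem_zpowers s)).1 (h2 (w * s) ?_)
        calc w * s * (w * s) = w * (s * w) * s := by group
          _ = w * w * (s * s) := by rw [← mem_centralizer_singleton_iff.1 hw.2]; group
          _ = 1 := by rw [e, hsz, hz]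
    have h4 := card_le_of_le h2
    rw [Nat.card_zpowers, hs] at h4
    rw [Nat.card_zpowers, orderOf_eq_prime ((pow_two z).trans hz) hz1] at h1
    have h6 := h.le_three h5 h9 (index_dvd_card (S : Subgroup G)) S.not_dvd_index
    have h7 := index_mul_card (S : Subgroup G)
    have h8 : pResidual 2 G = ⊤ := eq_top_of_le_card _ (by
      rw [Nat.card_congr e.toEquiv, Perm.card_SL23]
      rcases h6 with h6 | h6 <;> rw [h6] at h7 <;> omega)
    exact ⟨(topEquiv.symm.trans (MulEquiv.subgroupCongr h8.symm)).trans e⟩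
  left
  have h1 : Nat.card (oddCore G) = 3 :=
    (h.le_three h5 h9 (card_subgroup_dvd_card _) (not_dvd_card_pPrimeCore 2 G)).resolve_left
      fun e => hO (card_eq_one.1 e)
  obtain ⟨⟨y, hyO⟩, hy⟩ := exists_prime_orderOf_dvd_card' (G := oddCore G) 3 h1.symm.dvd
  rw [orderOf_mk] at hy
  have hy3 : y ^ 3 = 1 := by rw [← hy, pow_orderOf_eq_one]
  have hy1 : y ≠ 1 := fun e => by simp [e] at hy
  have h2 : zpowers y = oddCore G :=
    eq_of_le_of_card_ge (zpowers_le.2 hyO) (by rw [h1, Nat.card_zpowers, hy])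
  have h4 : ∀ g : G, g * y * g⁻¹ = y ∨ g * y * g⁻¹ = y⁻¹ := fun g =>
    (mem_zpowers_three hy3 (h2 ▸ Normal.conj_mem inferInstance _ hyO g)).resolve_left
      (by simpa using hy1)
  have hsy : s * y * s⁻¹ = y⁻¹ := (h4 s).resolve_left fun e =>
    hy1 (h.eq_one_of_four hs (mul_inv_eq_iff_eq_mul.1 e) hy3)
  have hzy : Commute z y := (hzc y).symm
  have hr : orderOf (z * y) = 2 * 3 := by
    rw [hzy.orderOf_mul_eq_mul_orderOf_of_coprime, hy, orderOf_eq_prime ((pow_two z).trans hz) hz1]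
    rw [hy, orderOf_eq_prime ((pow_two z).trans hz) hz1]
    norm_num
  have hr3 : (z * y) ^ 3 = z := by rw [hzy.mul_pow, hy3, mul_one, pow_succ, pow_two, hz, one_mul]
  have hzr : z ∈ zpowers (z * y) := by
    have := pow_mem (mem_zpowers (z * y)) 3
    rwa [hr3] at this
  have hyr : zpowers y ≤ zpowers (z * y) :=
    zpowers_le.2 ((mul_mem_cancel_left hzr).1 (mem_zpowers _))
  have h6 : ∀ g : G, g * y = y * g → g ∈ zpowers (z * y) := fun g hg => by
    have h7 : g ^ 6 = 1 := by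
      have h8 := h g
      have h10 := orderOf_pos g
      have h11 : orderOf g ≠ 4 := fun e => hy1 (h.eq_one_of_four e hg hy3)
      have h12 : orderOf g ≠ 5 := fun e => h5 (e ▸ orderOf_dvd_natCard g)
      rw [← orderOf_dvd_iff_pow_eq_one]
      generalize orderOf g = n at *
      interval_cases n <;> omega
    have h8 : g ^ 3 ∈ zpowers (z * y) := by
      rcases hu (g ^ 3) (by rw [← pow_add, h7]) with e | e
      · simp [e]
      · rwa [e]
    have h10 : g ^ 4 ∈ oddCore G := by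
      refine mem_of_coprime_orderOf_index_of_normal (Nat.Coprime.coprime_dvd_left
        (orderOf_dvd_of_pow_eq_one (n := 3) ?_) (Nat.prime_three.coprime_iff_not_dvd.2 fun e => h9 ?_))
      · rw [← pow_mul, show 4 * 3 = 6 * 2 by rfl, pow_mul, h7, one_pow]
      · rw [← index_mul_card (oddCore G), h1, pow_two]
        exact mul_dvd_mul_right e 3
    exact (mul_mem_cancel_left h8).1 (pow_succ g 3 ▸ hyr (h2 ▸ h10))
  refine PG.nonempty_mulEquiv_quaternionGroup (r := z * y) (s := s) hr (hsz.trans hr3.symm) ?_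
    (fun e => ?_) (eq_top_iff.2 fun g _ => ?_)
  · calc s * (z * y) * s⁻¹ = (s * z) * s⁻¹ * (s * y * s⁻¹) := by group
      _ = (z * y)⁻¹ := by
        rw [hsy, hzc s, mul_inv_cancel_right, mul_inv_rev, inv_eq_of_mul_eq_one_right hz, hzc]
  · have := orderOf_dvd_of_mem_zpowers e
    rw [hs, hr] at this
    omega
  · rcases h4 g with e | e
    · exact mem_sup_left (h6 g (mul_inv_eq_iff_eq_mul.1 e))
    · refine (mul_mem_cancel_left (mem_sup_right (inv_mem (mem_zpowers s)))).1
        (mem_sup_left (h6 _ (mul_inv_eq_iff_eq_mul.1 ?_)))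
      calc s⁻¹ * g * y * (s⁻¹ * g)⁻¹ = s⁻¹ * (g * y * g⁻¹) * s := by group
        _ = y := by rw [e, ← hsy]; group

theorem Six.of_pCore_five (h : Six G) (h0 : pCore 5 G ≠ ⊥) {s : G} (hs : orderOf s = 4)
    (h3 : 3 ∣ Nat.card G) : IsElementaryAbelian 5 (pCore 5 G) ∧
      (Nonempty (G ⧸ pCore 5 G ≃* QuaternionGroup 3) ∨ Nonempty (G ⧸ pCore 5 G ≃* SL(2, ZMod 3))) := by
  have := Fact.mk Nat.prime_two
  have := Fact.mk Nat.prime_three
  have := Fact.mk Nat.prime_five
  have hN := pCore_isPGroup 5 G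
  have h5 : ∀ n ∈ pCore 5 G, n ^ 5 = 1 := fun n hn =>
    h.pow_prime_of_mem Nat.prime_five (by norm_num) hN hn
  have hs4 : s * s * (s * s) = 1 := by
    rw [← pow_two, ← pow_two, ← pow_mul, ← orderOf_dvd_iff_pow_eq_one, hs]
  have hs2 : s * s ≠ 1 := fun e => by
    rw [← pow_two, ← orderOf_dvd_iff_pow_eq_one, hs] at e
    omega
  have hC : centralizer (pCore 5 G : Set G) ≤ pCore 5 G := le_pCore inferInstance
    (PG.isPGroup_of_forall_mem fun c hc => ⟨1, by simpa using h.centralizer_five hN h0 hc⟩)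
  refine ⟨⟨Fpf.isMulCommutative_of_inverted fun k hk => h.conj_eq_inv hN hs4 hs2 hk, h5⟩, ?_⟩
  set π := QuotientGroup.mk' (pCore 5 G) with hπ
  have hπ1 : ∀ g, π g = 1 ↔ g ∈ pCore 5 G := fun g => QuotientGroup.eq_one_iff g
  have hq := h.quotient (pCore 5 G)
  have hz : π (s * s) * π (s * s) = 1 := by rw [← map_mul, hs4, map_one]
  have hz1 : π (s * s) ≠ 1 := fun e => pow_five_ne_one hs4 hs2 (h5 _ ((hπ1 _).1 e))
  have hu : ∀ t : G ⧸ pCore 5 G, t * t = 1 → t = 1 ∨ t = π (s * s) := fun t ht => by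
    obtain ⟨t, rfl⟩ := QuotientGroup.mk'_surjective _ t
    rw [or_iff_not_imp_left]
    intro h1
    have h2 : t ^ 5 * t ^ 5 = 1 := by
      rw [← pow_add, show 5 + 5 = 2 * 5 by rfl, pow_mul, pow_two]
      exact h5 _ ((hπ1 _).1 ((map_mul π t t).trans ht))
    have h4 : π (t ^ 5) = π t := by
      rw [map_pow, pow_succ, pow_succ, pow_succ, pow_two, ht, one_mul, ht, one_mul]
    have h6 : t ^ 5 ≠ 1 := fun e => h1 (by rw [← h4, e, map_one])
    rw [← h4, eq_comm]
    refine QuotientGroup.eq.2 (hC fun k hk => ?_)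
    calc k * ((s * s)⁻¹ * t ^ 5) = (s * s)⁻¹ * (s * s * k * (s * s)⁻¹) * t ^ 5 := by group
      _ = (s * s)⁻¹ * (t ^ 5 * k * (t ^ 5)⁻¹) * t ^ 5 := by
          rw [h.conj_eq_inv hN hs4 hs2 hk, h.conj_eq_inv hN h2 h6 hk]
      _ = _ := by group
  refine hq.complement (fun h6 => ?_) (fun h6 => ?_) hz hu (s := π s)
    (Ord6.orderOf_eq_four (by rwa [← map_mul]) (by rw [← map_mul, hz])) ?_
  · obtain ⟨x, hx⟩ := exists_prime_orderOf_dvd_card' 5 h6
    exact hz1 (hq.eq_one_of_five hx (mul_inv_eq_iff_eq_mul.1 ((hu (x * π (s * s) * x⁻¹)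
      (by rw [conj_mul, hz]; simp)).resolve_left (by simpa using hz1))) (n := 2) (by norm_num)
        ((pow_two _).trans hz))
  · refine h.not_sq_dvd Nat.prime_three le_rfl h0 (coprime_card_of_isPGroup hN (by norm_num)).symm.symm
      (fun a ha => h.fpf_of_five hN fun e => ?_) (h6.trans (card_quotient_dvd_card _))
    rw [← orderOf_dvd_iff_pow_eq_one, ha] at e
    omega
  · rw [card_eq_card_quotient_mul_card_subgroup (pCore 5 G)] at h3
    exact (Nat.Coprime.dvd_mul_right (coprime_card_of_isPGroup hN (by norm_num)).symm).1 h3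

theorem Six.pCore_five_ne_bot [Group.IsSolvable G] (h : Six G) (h5 : 5 ∣ Nat.card G) {u : G}
    (hu : orderOf u = 4) (h3 : 3 ∣ Nat.card G) : pCore 5 G ≠ ⊥ := fun h0 => by
  have := Fact.mk Nat.prime_two
  have := Fact.mk Nat.prime_three
  have := Fact.mk Nat.prime_five
  obtain ⟨y, hy⟩ := exists_prime_orderOf_dvd_card' 3 h3
  have : Nontrivial G := ⟨⟨y, 1, fun e => by simp [e] at hy⟩⟩
  set H := pPrimeCore 5 G with hH
  have hH0 : H ≠ ⊥ := (IsPSolvable.of_isSolvable 5 G).core_ne_bot.resolve_left (not_not.2 h0)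
  have hHc : (Nat.card H).Coprime 5 := coprime_card_pPrimeCore 5 G
  have h25 := h.not_sq_dvd Nat.prime_five (by norm_num) hH0 hHc fun a ha => h.fpf_five ha hHc
  have hq := h.quotient H
  have h5' : 5 ∣ Nat.card (G ⧸ H) := by
    rw [card_eq_card_quotient_mul_card_subgroup H] at h5
    exact (Nat.Coprime.dvd_mul_right hHc.symm).1 h5
  have : Nontrivial (G ⧸ H) := Finite.one_lt_card_iff_nontrivial.1
    (lt_of_lt_of_le (by norm_num) (Nat.le_of_dvd Nat.card_pos h5'))
  set N := pCore 5 (G ⧸ H) with hN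
  have hN5 : IsPGroup 5 N := pCore_isPGroup 5 _
  have hN0 : N ≠ ⊥ := (IsPSolvable.of_isSolvable 5 (G ⧸ H)).core_ne_bot.resolve_right
    (not_not.2 (pPrimeCore_quotient_pPrimeCore 5 G))
  obtain ⟨x, hxN, hx⟩ := PG.exists_orderOf_eq_prime hN5 hN0
  obtain ⟨x, rfl⟩ := QuotientGroup.mk'_surjective H x
  have hx' := h.orderOf_of_map_five _ hx
  have hx5 : x ^ 5 = 1 := by rw [← hx', pow_orderOf_eq_one]
  have hyH : y ∈ H := by
    by_contra h1
    have h2 : orderOf (QuotientGroup.mk' H y) = 3 := orderOf_eq_prime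
      (by rw [← map_pow, ← hy, pow_orderOf_eq_one, map_one]) fun e => h1 ((QuotientGroup.eq_one_iff _).1 e)
    have h4 := Fpf.card_modEq_one (K := N) (H := zpowers (QuotientGroup.mk' H y))
      le_normalizer_of_normal (Fpf.zpowers_of_prime (h2 ▸ Nat.prime_three) (hq.fpf_of_five hN5
        fun e => by rw [← orderOf_dvd_iff_pow_eq_one, h2] at e; omega))
    obtain ⟨k, hk⟩ := IsPGroup.iff_card.1 hN5
    have h6 := (card_subgroup_dvd_card N).trans (card_quotient_dvd_card H)
    have h7 := (one_lt_card_iff_ne_bot _).2 hN0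
    rw [Nat.card_zpowers, h2, hk, Nat.ModEq] at h4
    rw [hk] at h6 h7
    rcases k with _ | _ | k
    · omega
    · omega
    · exact h25 ((pow_dvd_pow 5 (by omega)).trans h6)
  have hnil : Group.IsNilpotent H := Fpf.isNilpotent_of_prime Nat.prime_five
    (le_normalizer_of_normal (mem_top x)) hx5 (h.fpf_five hx' hHc)
  obtain ⟨P⟩ : Nonempty (Sylow 3 H) := inferInstance
  have hP0 : (P : Subgroup H).map H.subtype ≠ ⊥ := fun e => P.ne_bot_of_dvd_card
    (hy ▸ H.orderOf_dvd_natCard hyH) ((map_eq_bot_iff_of_injective _ H.subtype_injective).1 e)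
  have : (P : Subgroup H).Characteristic := Sylow.characteristic_of_normal P inferInstance
  have : ((P : Subgroup H).map H.subtype).Normal := normal_map_subtype_of_char _
  obtain ⟨V, hV, hVP⟩ := exists_isMinNormal_le _ hP0
  have := hV.normal
  have hV3 : IsPGroup 3 V := (P.isPGroup'.map _).to_le hVP
  obtain ⟨_, hV3'⟩ := hV.elementary_of_isPGroup hV3
  have hHV := Fpf.le_centralizer_of_isMinNormal Nat.prime_five hx5 (h.fpf_five hx' hHc) hV
    (hVP.trans (map_subtype_le _))
  set π := QuotientGroup.mk' (centralizer (V : Set G)) with hπ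
  have hπ1 : ∀ g, π g = 1 ↔ g ∈ centralizer (V : Set G) := fun g => QuotientGroup.eq_one_iff g
  have hΓ := h.quotient (centralizer (V : Set G))
  obtain ⟨v, hv, hv1⟩ := (bot_or_exists_ne_one V).resolve_left hV.ne_bot
  have hxV : x ∉ centralizer (V : Set G) := fun e =>
    hv1 (h.eq_one_of_five hx' (e v hv).symm (n := 3) (by norm_num) (hV3' v hv))
  have hπx : orderOf (π x) = 5 := orderOf_eq_prime (by rw [← map_pow, hx5, map_one])
    fun e => hxV ((hπ1 _).1 e)
  have hu4 : π u ^ 4 = 1 := by rw [← map_pow, ← hu, pow_orderOf_eq_one, map_one]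
  by_cases h1 : π u * π u = 1
  · have h2 : ∀ w : G, orderOf w = 4 → π w * π w = 1 → ∀ k ∈ V, w * k * w⁻¹ = k⁻¹ := fun w hw e k hk => by
      have h2 := (hπ1 _).1 ((map_mul π w w).trans e) k hk
      refine eq_inv_of_mul_eq_one_right (h.eq_one_of_four hw ?_
        (hV3' _ (V.mul_mem hk (Normal.conj_mem inferInstance _ hk w))))
      have h4 : k * (w * k * w⁻¹) = w * k * w⁻¹ * k :=
        congrArg Subtype.val (mul_comm' (⟨k, hk⟩ : V) ⟨_, Normal.conj_mem inferInstance _ hk w⟩)
      calc w * (k * (w * k * w⁻¹)) = w * k * w⁻¹ * (w * w * k) * w⁻¹ := by group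
        _ = w * k * w⁻¹ * k * w := by rw [← h2]; group
        _ = _ := by rw [h4]
    have h4 : u⁻¹ * (x * u * x⁻¹) ∈ centralizer (V : Set G) := fun k hk => by
      have h4 := h2 (x * u * x⁻¹) (by rw [← hu]; exact (MulAut.conj x).orderOf_eq u) (by
        rw [map_mul, map_mul, map_inv, conj_mul, h1]; simp) k hk
      calc k * (u⁻¹ * (x * u * x⁻¹)) = u⁻¹ * (u * k * u⁻¹) * (x * u * x⁻¹) := by group
        _ = u⁻¹ * (x * u * x⁻¹ * k * (x * u * x⁻¹)⁻¹) * (x * u * x⁻¹) := by rw [h2 u hu h1 k hk, h4]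
        _ = _ := by group
    have h6 := hΓ.eq_one_of_five (y := π u) hπx (by
      have := (hπ1 _).2 h4
      rw [map_mul, map_mul, map_mul, map_inv, map_inv, inv_mul_eq_one] at this
      exact mul_inv_eq_iff_eq_mul.1 this.symm) (n := 4) (by norm_num) hu4
    exact hv1 (h.eq_one_of_four hu ((hπ1 _).1 h6 v hv).symm (hV3' v hv))
  · have h2 : orderOf (π u) = 4 := Ord6.orderOf_eq_four h1 (by rw [← hu4]; simp [pow_succ, mul_assoc])
    set K := (N.comap (QuotientGroup.mk' H)).map π with hK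
    have : K.Normal := Normal.map inferInstance π (QuotientGroup.mk'_surjective _)
    have hK5 : IsPGroup 5 K := PG.isPGroup_of_forall_mem (by
      rintro _ ⟨l, hl, rfl⟩
      refine ⟨1, ?_⟩
      rw [pow_one, ← map_pow, hπ1]
      exact hHV ((QuotientGroup.eq_one_iff _).1 ((map_pow (QuotientGroup.mk' H) l 5).trans
        (hq.pow_prime_of_mem Nat.prime_five (by norm_num) hN5 hl))))
    refine hxV (frob π (QuotientGroup.mk'_surjective _) (QuotientGroup.ker_mk' _).le (K := K) (h := u)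
      (n := 4) (by norm_num) (le_normalizer_of_normal (mem_top _)) (fun w hw => ?_)
      (fpf_pow_of_four hu4 (hΓ.fpf_of_five hK5 (pow_five_ne_one (by rw [← pow_add, hu4])
        (by rwa [pow_two]))))
      (coprime_card_of_isPGroup hV3 (coprime_card_of_isPGroup hK5 (by norm_num)))
      (mem_map_of_mem π hxN))
    rw [← h.orderOf_of_map_four π (g := w * u) (by
      rw [map_mul, (hπ1 w).2 (hHV (map_subtype_le _ (hVP hw))), one_mul, h2]), pow_orderOf_eq_one]

end Cfsg.Lib.Ord6
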