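import Cfsg.Agent.Six.UnivSchA
import Cfsg.Agent.Solv.PGroupBasic
import Cfsg.Agent.Solv.PGroupNormal
import Cfsg.Agent.Solv.FrattiniP
import Mathlib.Algebra.Group.MinimalAxioms

/-!
# Central extensions of a field with an automorphism acting as a scalar: the universal one
-/

set_option autoImplicit false

namespace Cfsg.Lib.UnivSch

open Subgroup Polynomial
open scoped commutatorElement

universe u

variable {K : Type*} [Field K] {ζ : K} {P : Type*} [Group P] {σ : MulAut P} {f : P → K}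

theorem univ {P₀ : Type*} [Group P₀] [Finite P₀] [Finite P] {σ₀ : MulAut P₀} {f₀ : P₀ → K}
    (h₀ : Pre ζ σ₀ f₀) (hR₀ : R σ₀ = ⊤) (h : Pre ζ σ f) (hR : R σ = ⊤) (hζ : ζ ≠ 1) (hg : Gen ζ)
    (h0 : ζ ≠ 0) (hN : ∀ e n m : ℕ, Nat.card K = e ^ n → n ≤ 2 → m * e ≤ Nat.card K ^ 2 →
      m ≤ Nat.card P₀) :
    ∃ ψ : P₀ →* P, Function.Surjective ψ ∧ (∀ x, ψ (σ₀ x) = σ (ψ x)) ∧ ∀ x, ψ x = 1 → f₀ x = 0 := by
  let D : Subgroup (P₀ × P) :=
    ((hom f₀ h₀.add).comp (MonoidHom.fst _ _)).eqLocus ((hom f h.add).comp (MonoidHom.snd _ _))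
  have hD : ∀ x, x ∈ D ↔ f₀ x.1 = f x.2 := fun x => Iff.rfl
  let τ : MulAut D := res (MulEquiv.prodCongr σ₀ σ) D fun x hx => by
    rw [hD] at hx ⊢
    show f₀ (σ₀ x.1) = f (σ x.2)
    rw [h₀.eqv, h.eqv, hx]
  have l1 : ∀ x : P₀, ∃ y, (x, y) ∈ D := fun x => (h.surj (f₀ x)).imp fun _ => Eq.symm
  have l2 : ∀ y : P, ∃ x, (x, y) ∈ D := fun y => h₀.surj (f y)
  have hτ : Pre ζ τ fun x => f₀ x.1.1 := by
    refine ⟨fun x y => h₀.add _ _, fun x => h₀.eqv _, fun k => ?_, fun x hx =>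
      mem_center_iff.2 fun g => Subtype.ext (Prod.ext (mem_center_iff.1 (h₀.cent _ hx) _)
        (mem_center_iff.1 (h.cent _ (((hD _).1 x.2).symm.trans hx)) _)), fun x hx =>
      Subtype.ext (Prod.ext (h₀.fix _ hx) (h.fix _ (((hD _).1 x.2).symm.trans hx)))⟩
    obtain ⟨x, rfl⟩ := h₀.surj k
    obtain ⟨y, hy⟩ := l1 x
    exact ⟨⟨_, hy⟩, rfl⟩
  obtain ⟨k1, k2⟩ := hτ.restrict hζ
  obtain ⟨e, n, k3, k4, k5⟩ := k1.bound k2 hg h0
  let π₀ : R τ →* P₀ := (MonoidHom.fst _ _).comp (D.subtype.comp (R τ).subtype)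
  let π : R τ →* P := (MonoidHom.snd _ _).comp (D.subtype.comp (R τ).subtype)
  have s₀ : Function.Surjective π₀ := fun x => R_le (U := π₀.range) (fun x => by
    obtain ⟨y, hy⟩ := l1 x
    exact ⟨⟨_, mem_R τ ⟨_, hy⟩⟩, rfl⟩) (hR₀.ge (mem_top x))
  have s : Function.Surjective π := fun x => R_le (U := π.range) (fun y => by
    obtain ⟨x, hx⟩ := l2 y
    exact ⟨⟨_, mem_R τ ⟨_, hx⟩⟩, rfl⟩) (hR.ge (mem_top x))
  let ε := MulEquiv.ofBijective π₀ (s₀.bijective_of_nat_card_le (hN e n _ k3 k4 k5))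
  refine ⟨π.comp ε.symm.toMonoidHom, s.comp ε.symm.surjective, fun x => ?_, fun x hx => ?_⟩
  · obtain ⟨y, rfl⟩ := ε.surjective x
    show π (ε.symm (ε (res τ (R τ) (R_inv fun _ => rfl) y))) = σ (π (ε.symm (ε y)))
    rw [ε.symm_apply_apply, ε.symm_apply_apply]
    rfl
  · obtain ⟨y, rfl⟩ := ε.surjective x
    have : π (ε.symm (ε y)) = 1 := hx
    rw [ε.symm_apply_apply] at this
    exact ((hD _).1 y.1.2).trans ((congrArg f this).trans (add_one h.add))

theorem eigen {q : ℕ} (hq : 0 < q) (hζ : IsPrimitiveRoot ζ q) (hσ : σ ^ q = 1)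
    (h : ∀ x y, f (x * y) = f x + f y) (hf : f ≠ 0) : ∃ (i : ℕ) (g : P → K),
      (∀ x y, g (x * y) = g x + g y) ∧ g ≠ 0 ∧ ∀ x, g (σ x) = ζ ^ i * g x := by
  by_contra hne
  push Not at hne
  let T : Module.End K (P → K) := LinearMap.funLeft K K σ
  have key : ∀ n, (∀ x y, aeval T (∏ i ∈ Finset.range n, (X - C (ζ ^ i * 1))) f (x * y) =
      aeval T (∏ i ∈ Finset.range n, (X - C (ζ ^ i * 1))) f x +
        aeval T (∏ i ∈ Finset.range n, (X - C (ζ ^ i * 1))) f y) ∧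
      aeval T (∏ i ∈ Finset.range n, (X - C (ζ ^ i * 1))) f ≠ 0 := fun n => by
    induction n with
    | zero => simpa using ⟨h, hf⟩
    | succ n ih =>
      rw [Finset.prod_range_succ_comm, map_mul, Module.End.mul_apply]
      generalize aeval T (∏ i ∈ Finset.range n, (X - C (ζ ^ i * 1))) f = g at ih
      have e : ∀ x, aeval T (X - C (ζ ^ n * 1)) g x = g (σ x) - ζ ^ n * g x := fun x => by
        rw [map_sub, aeval_X, aeval_C, mul_one]; rfl
      refine ⟨fun x y => by rw [e, e, e, map_mul, ih.1, ih.1]; ring, fun k => ?_⟩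
      obtain ⟨x, hx⟩ := hne n g ih.1 ih.2
      exact hx (sub_eq_zero.1 ((e x).symm.trans (congrFun k x)))
  have e : ∀ n x, (T ^ n) f x = f ((σ ^ n) x) := fun n => by
    induction n with
    | zero => simp
    | succ n ih => intro x; rw [pow_succ', Module.End.mul_apply, pow_succ]; exact ih (σ x)
  refine (key q).2 (funext fun x => ?_)
  rw [← X_pow_sub_C_eq_prod hζ hq (one_pow q)]
  simp [e, hσ]

theorem exists_pre [Finite P] {p q : ℕ} [hp : Fact p.Prime] [CharP K p] (hq : q.Prime)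
    (hpq : p ≠ q) (hζ : IsPrimitiveRoot ζ q) (hg : Gen ζ) (hP : IsPGroup p P) (hσq : σ ^ q = 1)
    (hσ : σ ≠ 1) (irr : ∀ U : Subgroup P, (∀ x ∈ U, σ x ∈ U) → U = ⊤ ∨ ∀ x ∈ U, σ x = x) :
    ∃ j : ℕ, j.Coprime q ∧ ∃ f : P → K, Pre ζ (σ ^ j) f ∧ R (σ ^ j) = ⊤ := by
  have hR : R σ = ⊤ := (irr _ (R_inv fun _ => rfl)).resolve_right fun k => hσ (by
    ext x
    have e : ∀ n : ℕ, (σ ^ n) x = x * (x⁻¹ * σ x) ^ n := fun n => by
      induction n with
      | zero => simp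
      | succ n ih =>
        rw [pow_succ', MulAut.mul_apply, ih, map_mul, map_pow, k _ (mem_R σ x), pow_succ',
          ← mul_assoc, mul_inv_cancel_left]
    have e2 := e q
    rw [hσq, MulAut.one_apply, left_eq_mul] at e2
    obtain ⟨n, hn⟩ := hP (x⁻¹ * σ x)
    have := (pow_eq_one_iff_of_coprime (((Nat.coprime_primes hp.out hq).2 hpq).pow_left n)).1
      ⟨hn, e2⟩
    exact (inv_mul_eq_one.1 this).symm)
  have : Nontrivial P := by
    by_contra k
    rw [not_nontrivial_iff_subsingleton] at k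
    exact hσ (MulEquiv.ext fun x => Subsingleton.elim _ _)
  obtain ⟨T, hT, -⟩ := (eq_top_or_exists_le_coatom (⊥ : Subgroup P)).resolve_left bot_ne_top
  have := hP.isNilpotent
  have := NormalizerCondition.normal_of_coatom T Group.normalizerCondition_of_isNilpotent hT
  let e : P ⧸ T ≃* Multiplicative (ZMod p) :=
    mulEquivOfPrimeCardEq (p := p) (Solv.index_eq_of_isCoatom_of_isPGroup hP hT) (by simp)
  obtain ⟨i, g, g1, g2, g3⟩ := eigen (f := fun x : P => ZMod.castHom dvd_rfl K (e x).toAdd) hq.pos hζ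
    hσq (fun x y => by rw [QuotientGroup.mk_mul, map_mul, toAdd_mul, map_add]) fun k => by
      obtain ⟨x, hx⟩ := (e.surjective.comp QuotientGroup.mk_surjective) (Multiplicative.ofAdd 1)
      have := congrFun k x
      simp only [Function.comp_apply] at hx
      simp [hx] at this
  have g4 : (hom g g1).ker ≠ ⊤ := fun k => g2 (funext fun x => k.ge (mem_top x))
  have hξ : ζ ^ i ≠ 1 := fun k => g4 (top_unique (hR.ge.trans (R_le fun x => by
    show g _ = 0
    rw [g1, add_inv g1, g3, k, one_mul, neg_add_cancel])))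
  have : NeZero q := ⟨hq.ne_zero⟩
  obtain ⟨j, -, hj, hj2⟩ := ((hζ.pow_of_coprime i (((Nat.Prime.coprime_iff_not_dvd hq).2 fun k =>
    hξ ((hζ.pow_eq_one_iff_dvd i).2 k)).symm)).isPrimitiveRoot_iff).1 hζ
  have e1 : ∀ n x, g ((σ ^ n) x) = (ζ ^ i) ^ n * g x := fun n => by
    induction n with
    | zero => simp
    | succ n ih => intro x; rw [pow_succ', MulAut.mul_apply, g3, ih, pow_succ', mul_assoc]
  have g5 : ∀ x, g x = 0 → σ x = x := (irr _ fun x (hx : g x = 0) => by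
    show g _ = 0
    rw [g3, hx, mul_zero]).resolve_left g4
  have hz := hζ.ne_one hq.one_lt
  have hpre : Pre ζ (σ ^ j) g := by
    refine ⟨g1, fun x => by rw [e1, hj2], fun k => ?_, fun x hx => ?_, fun x hx => ?_⟩
    · refine ((hg (AddSubgroup.toSubgroup.symm (hom g g1).range) ?_).resolve_left fun k =>
        g2 (funext fun x => AddSubgroup.mem_bot.1 (k.le ⟨x, rfl⟩))).ge (AddSubgroup.mem_top k)
      rintro _ ⟨x, rfl⟩
      exact ⟨(σ ^ j) x, by show g _ = ζ * g x; rw [e1, hj2]⟩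
    · rw [← centralizer_univ, ← coe_top, ← hR, ← zpowers_le, le_centralizer_iff]
      refine R_le fun y => ?_
      rw [zpowers_eq_closure, centralizer_closure, mem_centralizer_singleton_iff]
      have := g5 (y * x * y⁻¹) (by rw [g1, g1, add_inv g1, hx]; ring)
      rw [map_mul, map_mul, map_inv, g5 x hx] at this
      calc y⁻¹ * σ y * x = y⁻¹ * (σ y * x * (σ y)⁻¹) * σ y := by group
        _ = _ := by rw [this]; group
    · exact pow_mem (show σ ∈ MulAction.stabilizer (MulAut P) x from g5 x hx) j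
  refine ⟨j, hj, g, hpre, (irr _ (R_inv fun x => ?_)).resolve_right fun k => ?_⟩
  · rw [← MulAut.mul_apply, ← pow_succ', pow_succ, MulAut.mul_apply]
  · obtain ⟨x, hx, e⟩ := hpre.exists_R hz 1
    have := g3 x
    rw [k x hx, e, mul_one] at this
    exact hξ this.symm

theorem exists_root {p q a : ℕ} [hp : Fact p.Prime] [hq : Fact q.Prime] [CharP K p] [Finite K]
    (ha : a = orderOf (p : ZMod q)) (hK : Nat.card K = p ^ a) :
    ∃ ζ : K, IsPrimitiveRoot ζ q ∧ Gen ζ := by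
  have key : ∀ d : ℕ, q ∣ p ^ d - 1 ↔ a ∣ d := fun d => by
    rw [ha, orderOf_dvd_iff_pow_eq_one, ← Nat.cast_pow, ← Nat.cast_one (R := ZMod q), eq_comm,
      ZMod.natCast_eq_natCast_iff, Nat.modEq_iff_dvd' (Nat.one_le_pow _ _ hp.out.pos)]
  obtain ⟨u, hu⟩ := exists_prime_orderOf_dvd_card' (G := Kˣ) q (by
    rw [Nat.card_units, hK]; exact (key a).2 dvd_rfl)
  have hζ : IsPrimitiveRoot (u : K) q := IsPrimitiveRoot.iff_orderOf.2 (by rw [orderOf_units, hu])
  refine ⟨u, hζ, fun A hA => ?_⟩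
  by_cases hb : A = ⊥
  · exact Or.inl hb
  obtain ⟨⟨x, hx⟩, hx0⟩ := (AddSubgroup.ne_bot_iff_exists_ne_zero).1 hb
  have := Fintype.ofFinite (stab A)
  obtain ⟨d, -, hd⟩ := FiniteField.card (stab A) p
  have e : (u : K) ^ (p ^ (d : ℕ) - 1) = 1 := by
    have := FiniteField.pow_card_sub_one_eq_one (⟨u, hA⟩ : stab A)
      fun k => u.ne_zero (congrArg Subtype.val k)
    rw [hd] at this
    exact congrArg Subtype.val this
  have e2 := Nat.le_of_dvd d.pos ((key d).1 ((hζ.pow_eq_one_iff_dvd _).1 e))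
  have e3 : Function.Surjective (stab A).subtype :=
    ((stab A).subtype.injective.bijective_of_nat_card_le (by
      rw [hK, Nat.card_eq_fintype_card, hd]; exact Nat.pow_le_pow_right hp.out.pos e2)).2
  refine Or.inr ((AddSubgroup.eq_top_iff' A).2 fun k => ?_)
  obtain ⟨c, hc⟩ := e3 (k / x)
  have := c.2 x hx
  rwa [show (c : K) = k / x from hc, div_mul_cancel₀ k fun k => hx0 (Subtype.ext k)] at this

/-- A Heisenberg-type group. -/
@[ext] structure Heis (c : K →+ K) where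
  /-- first coordinate -/
  x : K
  /-- second coordinate -/
  w : K

namespace Heis

variable {c : K →+ K}

instance : Mul (Heis c) := ⟨fun a b => ⟨a.x + b.x, a.w + b.w + a.x * c b.x⟩⟩
instance : One (Heis c) := ⟨⟨0, 0⟩⟩
instance : Inv (Heis c) := ⟨fun a => ⟨-a.x, -a.w + a.x * c a.x⟩⟩

theorem mul_x (a b : Heis c) : (a * b).x = a.x + b.x := rfl
theorem mul_w (a b : Heis c) : (a * b).w = a.w + b.w + a.x * c b.x := rfl
theorem inv_x (a : Heis c) : a⁻¹.x = -a.x := rfl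
theorem inv_w (a : Heis c) : a⁻¹.w = -a.w + a.x * c a.x := rfl
theorem one_x : (1 : Heis c).x = 0 := rfl
theorem one_w : (1 : Heis c).w = 0 := rfl

instance : Group (Heis c) := Group.ofLeftAxioms
  (fun a b d => by ext <;> simp only [mul_x, mul_w, map_add] <;> ring)
  (fun a => by ext <;> simp only [mul_x, mul_w, one_x, one_w] <;> ring)
  (fun a => by ext <;> simp only [mul_x, mul_w, inv_x, inv_w, one_x, one_w] <;> ring)

instance [Finite K] : Finite (Heis c) :=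
  Finite.of_injective (fun a => (a.x, a.w)) fun _ _ h =>
    Heis.ext (congrArg Prod.fst h) (congrArg Prod.snd h)

/-- The automorphism given by a scalar. -/
def aut (h0 : ζ ≠ 0) (hc : ∀ x, ζ * c (ζ * x) = c x) : MulAut (Heis c) where
  toFun a := ⟨ζ * a.x, a.w⟩
  invFun a := ⟨ζ⁻¹ * a.x, a.w⟩
  left_inv a := Heis.ext (inv_mul_cancel_left₀ h0 _) rfl
  right_inv a := Heis.ext (mul_inv_cancel_left₀ h0 _) rfl
  map_mul' a b := Heis.ext (mul_add _ _ _) (by
    simp only [mul_w]; rw [← hc b.x]; ring)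

theorem pre (h0 : ζ ≠ 0) (hc : ∀ x, ζ * c (ζ * x) = c x) : Pre ζ (aut h0 hc) Heis.x :=
  ⟨fun _ _ => rfl, fun _ => rfl, fun k => ⟨⟨k, 0⟩, rfl⟩, fun a ha => mem_center_iff.2 fun g => by
    ext <;> simp only [mul_x, mul_w, ha, map_zero] <;> ring,
    fun a ha => Heis.ext (by show ζ * a.x = a.x; rw [ha, mul_zero]) rfl⟩

end Heis

theorem exists_model {K : Type u} [Field K] [Finite K] {ζ : K} (h0 : ζ ≠ 0) (h1 : ζ ≠ 1)
    (c : K →+ K) (hc : ∀ x, ζ * c (ζ * x) = c x) (δ : K →+ K) (hδ : ∀ x, δ x = x * c 1 - c x) :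
    ∃ (P : Type u) (_ : Group P) (_ : Finite P) (σ : MulAut P) (f : P → K), Pre ζ σ f ∧ R σ = ⊤ ∧
      Nat.card K * Nat.card δ.range ≤ Nat.card P := by
  have h := Heis.pre h0 hc
  obtain ⟨k1, k2⟩ := h.restrict h1
  refine ⟨_, _, inferInstance, _, _, k1, k2, ?_⟩
  rw [k1.card]
  refine Nat.mul_le_mul_left _ (Nat.card_le_card_of_injective (fun d => ⟨⟨⟨0, d.1⟩, ?_⟩, rfl⟩)
    fun d d' e => Subtype.ext (congrArg (fun x => x.1.1.w) e))
  obtain ⟨_, x, rfl⟩ := d
  convert h.comm_mem_R h1 ⟨x, 0⟩ ⟨1, 0⟩ using 1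
  ext <;> simp [commutatorElement_def, Heis.mul_x, Heis.mul_w, Heis.inv_x, Heis.inv_w, hδ]
  ring

end Cfsg.Lib.UnivSch
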