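import Cfsg.Agent.Six.Mod
import Cfsg.Agent.Six.Fin
import Cfsg.Agent.Solv.MinNormal
import Cfsg.Agent.Cor.OddSol
import Cfsg.Agent.Char.Central
import Cfsg.Agent.CITCor.MTen
import Cfsg.Agent.Inst.CITStrong
import Cfsg.Agent.Local.SixRecog
import Cfsg.Agent.S4231
import Cfsg.Agent.S2119

/-! Non-solvable groups with element orders at most six: reduction to simple groups. -/

set_option autoImplicit false
set_option linter.unusedSectionVars false

namespace Cfsg.Lib.Ord6

open Subgroup Cfsg.Lib.Solv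
open scoped Pointwise

universe u

/-- The list of the non-solvable groups with element orders at most six. -/
def Concl (H : Type*) [Group H] : Prop :=
  Nonempty (H ≃* A6) ∨ Nonempty (H ≃* S5) ∨ Nonempty (H ≃* S6) ∨
    ∃ f : H →* A5, Function.Surjective f ∧ IsPGroup 2 f.ker

variable {G : Type u} [Group G] [Finite G]

theorem comm_center (Q : Subgroup G) :
    IsMulCommutative (Q ⊓ centralizer (Q : Set G) : Subgroup G) :=
  ⟨⟨fun a b => Subtype.ext (b.2.2 _ a.2.1)⟩⟩

theorem fpf_pow_of_four {Γ : Type*} [Group Γ] {K : Subgroup Γ} {u : Γ} (hu : u ^ 4 = 1)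
    (h : K ⊓ centralizer {u ^ 2} = ⊥) (i : ℕ) (h0 : 0 < i) (h4 : i < 4) :
    K ⊓ centralizer {u ^ i} = ⊥ := by
  refine Fpf.inf_centralizer_eq_bot_iff.2 fun k hk e => Fpf.eq_one_of_commute h hk ?_
  have e' : Commute k (u ^ i) := e
  interval_cases i
  · rw [pow_one] at e'; exact (e'.pow_right 2).eq
  · exact e
  · have := (e'.pow_right 2).eq
    rwa [← pow_mul, show 3 * 2 = 4 + 2 by rfl, pow_add, hu, one_mul] at this

theorem Six.ker_eq_bot (h : Six G) {Γ : Type*} [Group Γ] (f : G →* Γ) (hf : Function.Surjective f)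
    (hΓ : FrobFour Γ) (hQ : IsPGroup 2 f.ker) : f.ker = ⊥ := by
  by_contra h0
  have := Fact.mk Nat.prime_two
  obtain ⟨K, u, h1, h2, h3, h4, a, ha, g, h5⟩ := hΓ
  obtain ⟨u, rfl⟩ := hf u
  obtain ⟨a, rfl⟩ := hf a
  obtain ⟨g, rfl⟩ := hf g
  have := comm_center f.ker
  have hV : IsPGroup 2 (f.ker ⊓ centralizer (f.ker : Set G) : Subgroup G) := hQ.to_le inf_le_left
  have h6 := frob f hf (V := f.ker ⊓ centralizer (f.ker : Set G)) (K := K) (h := u) (n := 4)
    (fun a ha b hb => (hb.2 a ha).symm) (by norm_num) h2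
    (fun v hv => by
      rw [← h.orderOf_of_map_four f (g := v * u) (by rw [map_mul, hv.1, one_mul, h1]),
        pow_orderOf_eq_one])
    (fpf_pow_of_four (h1 ▸ pow_orderOf_eq_one _) h3) (coprime_card_of_isPGroup hV h4)
  have h7 := mul_mem (h6 (show a ∈ K.comap f from ha))
    (Normal.conj_mem inferInstance _ (h6 (show a ∈ K.comap f from ha)) g)
  refine PG.inf_centralizer_ne_bot hQ hQ le_normalizer h0 (eq_bot_iff.2 fun v hv => ?_)
  exact h.eq_one_of_five (h.orderOf_of_map_five f (by simpa using h5)) (h7 v hv).symm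
    (n := 4) (by norm_num) (h.pow_four_of_mem hV hv)

theorem Six.equiv_of_quotient (h : Six G) {Q : Subgroup G} [Q.Normal] (hQ : IsPGroup 2 Q)
    {Γ : Type*} [Group Γ] (hΓ : FrobFour Γ) (e : G ⧸ Q ≃* Γ) : Nonempty (G ≃* Γ) := by
  have hf : Function.Surjective (e.toMonoidHom.comp (QuotientGroup.mk' Q)) :=
    e.surjective.comp (QuotientGroup.mk'_surjective Q)
  have h1 := h.ker_eq_bot _ hf hΓ (hQ.to_le fun x hx => by simpa using hx)
  exact ⟨MulEquiv.ofBijective _ ⟨(MonoidHom.ker_eq_bot_iff _).1 h1, hf⟩⟩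

theorem Six.concl_of_quotient (h : Six G) {Q : Subgroup G} [Q.Normal] (hQ : IsPGroup 2 Q)
    (hc : Concl (G ⧸ Q)) : Concl G := by
  rcases hc with ⟨⟨e⟩⟩ | ⟨⟨e⟩⟩ | ⟨⟨e⟩⟩ | ⟨f, hf, hk⟩
  · exact Or.inl (h.equiv_of_quotient hQ frobFour_A6 e)
  · exact Or.inr (Or.inl (h.equiv_of_quotient hQ frobFour_S5 e))
  · exact Or.inr (Or.inr (Or.inl (h.equiv_of_quotient hQ frobFour_S6 e)))
  · refine Or.inr (Or.inr (Or.inr ⟨f.comp (QuotientGroup.mk' Q),
      hf.comp (QuotientGroup.mk'_surjective Q), ?_⟩))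
    rw [← MonoidHom.comap_ker]
    exact hk.comap_of_ker_isPGroup _ (by rwa [QuotientGroup.ker_mk'])

theorem Six.fpf_of_five (h : Six G) {N : Subgroup G} (hN : IsPGroup 5 N) {t : G} (ht : t ^ 5 ≠ 1) :
    N ⊓ centralizer {t} = ⊥ :=
  Fpf.inf_centralizer_eq_bot_iff.2 fun k hk e => by
    by_contra h1
    have := Fact.mk Nat.prime_five
    exact ht (h.pow_five (orderOf_eq_prime (h.pow_prime_of_mem Nat.prime_five (by norm_num) hN hk) h1) e)

theorem pow_five_ne_one {t : G} (h : t * t = 1) (h1 : t ≠ 1) : t ^ 5 ≠ 1 := fun h5 => h1 (by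
  rw [← h5, show 5 = 2 + 2 + 1 by rfl, pow_succ, pow_add, sq, h, one_mul, one_mul])

theorem Six.centralizer_five (h : Six G) {N : Subgroup G} (hN : IsPGroup 5 N) (h0 : N ≠ ⊥) {c : G}
    (hc : c ∈ centralizer (N : Set G)) : c ^ 5 = 1 := by
  have := Fact.mk Nat.prime_five
  obtain ⟨x, hx, h5⟩ := PG.exists_orderOf_eq_prime hN h0
  exact h.pow_five h5 (hc x hx)

theorem Six.conj_eq_inv (h : Six G) {N : Subgroup G} [N.Normal] (hN : IsPGroup 5 N) {t : G}
    (ht : t * t = 1) (ht1 : t ≠ 1) {k : G} (hk : k ∈ N) : t * k * t⁻¹ = k⁻¹ :=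
  Fpf.conj_eq_inv_of_involution (le_normalizer_of_normal (mem_top _))
    (h.fpf_of_five hN (pow_five_ne_one ht ht1)) ht hk

theorem Six.commutator_mem (h : Six G) {N : Subgroup G} [N.Normal] (hN : IsPGroup 5 N) {t : G}
    (ht : t * t = 1) (ht1 : t ≠ 1) (g : G) : t⁻¹ * (g * t * g⁻¹) ∈ centralizer (N : Set G) := by
  intro k hk
  have h1 := h.conj_eq_inv hN ht ht1 hk
  have h2 := h.conj_eq_inv hN (t := g * t * g⁻¹) (by rw [conj_mul, ht]; simp) (by simpa using ht1) hk
  calc k * (t⁻¹ * (g * t * g⁻¹)) = t⁻¹ * (t * k * t⁻¹) * (g * t * g⁻¹) := by group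
    _ = t⁻¹ * (g * t * g⁻¹ * k * (g * t * g⁻¹)⁻¹) * (g * t * g⁻¹) := by rw [h1, h2]
    _ = _ := by group

theorem Six.isSolvable_of_five (h : Six G) {N : Subgroup G} [N.Normal] (hN : IsPGroup 5 N)
    (h0 : N ≠ ⊥) : Group.IsSolvable G := by
  by_contra hs
  have := Fact.mk Nat.prime_two
  have := Fact.mk Nat.prime_five
  have h2 : 2 ∣ Nat.card G := by
    by_contra h2
    refine hs (Char.isSolvable_of_prime_dvd_card Nat.prime_three Nat.prime_five G fun r hr hd => ?_)
    rcases h.prime_cases hr hd with h1 | h1 | h1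
    · exact absurd (h1 ▸ hd) h2
    · exact Or.inl h1
    · exact Or.inr h1
  obtain ⟨t, ht⟩ := exists_prime_orderOf_dvd_card' 2 h2
  have ht2 : t * t = 1 := by rw [← sq, ← ht, pow_orderOf_eq_one]
  have ht1 : t ≠ 1 := fun e => by simp [e] at ht
  have hq := h.quotient (centralizer (N : Set G))
  obtain ⟨x, hx⟩ := hq.exists_five fun h1 => hs (Cor.isSolvable_of_normal_quotient _
    (Cor.isSolvable_of_isPGroup (p := 5) (PG.isPGroup_of_forall_mem fun c hc =>
      ⟨1, by simpa using h.centralizer_five hN h0 hc⟩)) h1)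
  obtain ⟨x, rfl⟩ := QuotientGroup.mk_surjective x
  have h3 := hq.eq_one_of_five (y := (t : G ⧸ centralizer (N : Set G))) hx (by
    have := QuotientGroup.eq.2 (h.commutator_mem hN ht2 ht1 x)
    rw [QuotientGroup.mk_mul, QuotientGroup.mk_mul, QuotientGroup.mk_inv] at this
    exact (mul_inv_eq_iff_eq_mul.1 this.symm)) (n := 2) (by norm_num)
    (by rw [← QuotientGroup.mk_pow, sq, ht2, QuotientGroup.mk_one])
  exact pow_five_ne_one ht2 ht1 (h.centralizer_five hN h0 ((QuotientGroup.eq_one_iff _).1 h3))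

theorem Concl.hasA4_or {Γ : Type*} [Group Γ] (hc : Concl Γ) :
    HasA4 Γ ∨ ∃ f : Γ →* A5, Function.Surjective f ∧ IsPGroup 2 f.ker ∧ f.ker ≠ ⊥ := by
  rcases hc with ⟨⟨e⟩⟩ | ⟨⟨e⟩⟩ | ⟨⟨e⟩⟩ | ⟨f, hf, hk⟩
  · exact Or.inl (hasA4_A6.map e.symm.toMonoidHom e.symm.injective)
  · exact Or.inl ((hasA4_A5.map _ (subtype_injective _)).map e.symm.toMonoidHom e.symm.injective)
  · exact Or.inl ((hasA4_A6.map _ (subtype_injective _)).map e.symm.toMonoidHom e.symm.injective)
  · by_cases h0 : f.ker = ⊥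
    · have e := MulEquiv.ofBijective f ⟨(MonoidHom.ker_eq_bot_iff _).1 h0, hf⟩
      exact Or.inl (hasA4_A5.map e.symm.toMonoidHom e.symm.injective)
    · exact Or.inr ⟨f, hf, hk, h0⟩

theorem exists_five_A5 : ∃ x : A5, orderOf x = 5 :=
  have := Fact.mk Nat.prime_five
  exists_prime_orderOf_dvd_card' 5 (by rw [card_A5]; norm_num)

theorem eq_bot_of_comap_le {C : Subgroup G} [C.Normal] {K : Subgroup (G ⧸ C)}
    (h : K.comap (QuotientGroup.mk' C) ≤ C) : K = ⊥ := by
  refine eq_bot_iff.2 fun k hk => ?_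
  obtain ⟨g, rfl⟩ := QuotientGroup.mk_surjective k
  exact (QuotientGroup.eq_one_iff _).2 (h hk)

theorem Six.not_concl_three (h : Six G) {N : Subgroup G} [N.Normal] [IsMulCommutative N]
    (hN : IsPGroup 3 N) : ¬ Concl (G ⧸ centralizer (N : Set G)) := fun hc => by
  have := Fact.mk Nat.prime_two
  have := Fact.mk Nat.prime_three
  set π := QuotientGroup.mk' (centralizer (N : Set G)) with hπ
  have hπs : Function.Surjective π := QuotientGroup.mk'_surjective _
  have hker : π.ker ≤ centralizer (N : Set G) := (QuotientGroup.ker_mk' _).le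
  have hN1 : ∀ v ∈ N, π v = 1 := fun v hv => (QuotientGroup.eq_one_iff _).2 fun w hw =>
    congrArg Subtype.val (mul_comm' (⟨w, hw⟩ : N) ⟨v, hv⟩)
  have hcop : ∀ {K : Subgroup (G ⧸ centralizer (N : Set G))}, IsPGroup 2 K →
      (Nat.card N).Coprime (Nat.card K) := fun hK =>
    coprime_card_of_isPGroup hN (coprime_card_of_isPGroup hK (by norm_num))
  rcases hc.hasA4_or with ⟨a, b, y, h1, h2, h3, h4⟩ | ⟨f, hf, hk, h0⟩
  · obtain ⟨g, rfl⟩ := hπs y
    have hy1 : π g ≠ 1 := fun e => h1.ne (by rw [← h3, e]; simp)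
    obtain ⟨h5, h6⟩ := h.exists_lift_three π h2 hy1
    have h7 : π g * (a * b) * (π g)⁻¹ = a := by
      rw [← conj_mul, h3, h4, ← mul_assoc, h1.comm, mul_assoc, h1.sq_b, mul_one]
    have hn : π g ∈ normalizer (Known.four a b : Set _) := mem_normalizer_of_conj_mem fun x hx => by
      rw [h1.mem_iff] at hx ⊢
      rcases hx with rfl | rfl | rfl | rfl <;> simp [h3, h4, h7]
    have hfp : Known.four a b ⊓ centralizer {π g} = ⊥ :=
      Fpf.inf_centralizer_eq_bot_iff.2 fun x hx e => by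
        have e' : π g * x * (π g)⁻¹ = x := by rw [← e]; group
        rw [h1.mem_iff] at hx
        rcases hx with rfl | rfl | rfl | rfl
        · rfl
        · exact absurd (e'.symm.trans h3) h1.ne
        · exact absurd (by simpa using e'.symm.trans h4) h1.a_ne
        · exact absurd (by simpa using e'.symm.trans h7) h1.b_ne
    have h8 := frob π hπs hker (K := Known.four a b) (h := g ^ 4) (n := 3) (by norm_num)
      (h6 ▸ hn) (fun v hv => ?_) (fun i hi hi' => ?_)
      (hcop (isPGroup_of_mul_self fun x hx => h1.mul_self hx))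
    · exact h1.a_ne (mem_bot.1 (eq_bot_of_comap_le h8 ▸ Known.left_mem_four a b))
    · have h9 := Fpf.mul_pow_mul_inv_pow_mem (P := N) (b := g ^ 4)
        (le_normalizer_of_normal (mem_top _)) hv 3
      rw [h5, inv_one, mul_one] at h9
      obtain ⟨k, hk⟩ := PG.exists_pow_prime_pow_eq_one hN h9
      exact h.pow_prime Nat.prime_three le_rfl (k := k + 1) (by rw [pow_succ' 3, pow_mul, hk])
    · rw [h6]
      exact Fpf.zpowers_of_prime (by rw [orderOf_eq_prime h2 hy1]; norm_num) hfp _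
        (pow_mem (mem_zpowers _) i)
        (pow_ne_one_of_lt_orderOf hi.ne' (by rwa [orderOf_eq_prime h2 hy1]))
  · obtain ⟨x, hx⟩ := exists_five_A5
    obtain ⟨x, rfl⟩ := hf x
    obtain ⟨x, rfl⟩ := hπs x
    have hq := h.quotient (centralizer (N : Set G))
    have hx' := hq.orderOf_of_map_five f hx
    refine h0 (eq_bot_of_comap_le (frob π hπs hker (K := f.ker) (h := x) (n := 5) (by norm_num)
      (le_normalizer_of_normal (mem_top _)) (fun v hv => ?_) (fun i hi hi' => ?_) (hcop hk)))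
    · rw [← h.orderOf_of_map_five π (g := v * x) (by rw [map_mul, hN1 v hv, one_mul, hx']),
        pow_orderOf_eq_one]
    · refine hq.fpf_five (orderOf_pow_five hx' ?_) (coprime_five_of_two hk)
      interval_cases i <;> norm_num

theorem ker_eq_pCore {H : Type*} [Group H] [Finite H] (f : H →* A5) (hf : Function.Surjective f)
    (hk : IsPGroup 2 f.ker) : f.ker = pCore 2 H := by
  refine le_antisymm (le_pCore inferInstance hk) ?_
  have := Fact.mk Nat.prime_two
  rcases ((inferInstance : (pCore 2 H).Normal).map f hf).eq_bot_or_eq_top with h | h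
  · exact (Subgroup.map_eq_bot_iff _).1 h
  · obtain ⟨k, hk⟩ := IsPGroup.iff_card.1 ((pCore_isPGroup 2 H).map f)
    rw [h, card_top, card_A5] at hk
    have : 3 ∣ 2 ^ k := hk ▸ by norm_num
    exact absurd (Nat.prime_three.dvd_of_dvd_pow this) (by norm_num)

theorem Six.centralizer_eq_bot (h : Six G) {N : Subgroup G} (h2 : 2 ∣ Nat.card N)
    (h5 : 5 ∣ Nat.card N) {g : G} (hg : ∀ n ∈ N, g * n = n * g) : g = 1 := by
  have := Fact.mk Nat.prime_two
  have := Fact.mk Nat.prime_five
  obtain ⟨x, hx⟩ := exists_prime_orderOf_dvd_card' 5 h5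
  obtain ⟨t, ht⟩ := exists_prime_orderOf_dvd_card' 2 h2
  by_contra h1
  have h3 := orderOf_eq_prime (h.pow_five (by rw [orderOf_coe, hx]) (hg x x.2).symm) h1
  have h4 := h.pow_five h3 (hg t t.2)
  rw [← orderOf_dvd_iff_pow_eq_one, orderOf_coe, ht] at h4
  omega

theorem card_dvd_aut {N : Subgroup G} [N.Normal] (hC : ∀ g : G, (∀ n ∈ N, g * n = n * g) → g = 1)
    {Γ : Type*} [Group Γ] (e : N ≃* Γ) : ∃ φ : G →* MulAut Γ, Function.Injective φ := by
  refine ⟨(MulAut.congr e).toMonoidHom.comp MulAut.conjNormal, (MulAut.congr e).injective.comp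
    ((injective_iff_map_eq_one _).2 fun g hg => hC g fun n hn => ?_)⟩
  have := congrArg Subtype.val (DFunLike.congr_fun hg ⟨n, hn⟩)
  exact mul_inv_eq_iff_eq_mul.1 (by simpa using this)

theorem Six.concl_of_A5 (h : Six G) {N : Subgroup G} [N.Normal] (hN : N ≠ ⊤) (e : N ≃* A5) :
    Nonempty (G ≃* S5) := by
  have hc : Nat.card N = 60 := (Nat.card_congr e.toEquiv).trans card_A5
  obtain ⟨φ, hφ⟩ := card_dvd_aut (fun g hg => h.centralizer_eq_bot (N := N) (by rw [hc]; norm_num)
    (by rw [hc]; norm_num) hg) e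
  let ψ := (MulEquiv.ofBijective _ (Cfsg.Agent.S2119.result 5 (by norm_num) (by norm_num))).symm
  have h1 : Function.Injective (ψ.toMonoidHom.comp φ) := ψ.injective.comp hφ
  have h2 := card_dvd_of_injective _ h1
  have h3 := card_lt_of_ne_top hN
  have h4 := card_subgroup_dvd_card N
  rw [hc] at h3 h4
  refine ⟨MulEquiv.ofBijective _ ((Nat.bijective_iff_injective_and_card _).2 ⟨h1, ?_⟩)⟩
  rw [card_S5] at h2 ⊢
  have := Nat.le_of_dvd (by norm_num) h2
  omega

theorem Six.concl_of_A6 (h : Six G) (h2 : pCore 2 G = ⊥) {N : Subgroup G} [hn : N.Normal]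
    (hN : N ≠ ⊤) (e : N ≃* A6) : Nonempty (G ≃* S6) := by
  have := Fact.mk Nat.prime_five
  have hc : Nat.card N = 360 := (Nat.card_congr e.toEquiv).trans card_A6
  have hC := fun g hg => h.centralizer_eq_bot (N := N) (g := g) (by rw [hc]; norm_num)
    (by rw [hc]; norm_num) hg
  obtain ⟨φ, hφ⟩ := card_dvd_aut hC e
  have h1 := (card_dvd_of_injective _ hφ).trans (Cfsg.Agent.S4231.card_dvd 6 (by norm_num))
  have h3 := card_lt_of_ne_top hN
  have h4 := card_mul_index N
  rw [hc] at h3 h4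
  norm_num [Nat.factorial] at h1
  obtain ⟨x, hx⟩ := exists_prime_orderOf_dvd_card' (G := N) 5 (by rw [hc]; norm_num)
  have h5 : Nat.card G ≤ 145 * 5 := by
    rw [← index_mul_card (centralizer {(x : G)}), ← Char.card_isConj_eq_index]
    refine Nat.mul_le_mul ?_ ?_
    · rw [← s6_five, ← Nat.card_eq_finsetCard]
      have hm : ∀ y : {y // IsConj (x : G) y}, (y : G) ∈ N := fun y => by
        obtain ⟨c, hc⟩ := isConj_iff.1 y.2
        exact hc ▸ hn.conj_mem _ x.2 c
      refine Nat.card_le_card_of_injective (fun y => ⟨(e ⟨y, hm y⟩ : S6), ?_⟩) fun y z hyz => ?_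
      · have h6 : (⟨y, hm y⟩ : N) ^ 5 = 1 := Subtype.ext (by
          obtain ⟨c, hc⟩ := isConj_iff.1 y.2
          change (y : G) ^ 5 = 1
          rw [← hc, conj_pow, ← coe_pow, ← hx, pow_orderOf_eq_one]; simp)
        have h7 : (e ⟨y, hm y⟩ : S6) ^ 5 = 1 := by rw [← coe_pow, ← map_pow, h6, map_one, coe_one]
        simpa [pow_succ] using h7
      · have h5 := congrArg Subtype.val hyz
        have h6 := congrArg Subtype.val (e.injective (Subtype.ext h5))
        exact Subtype.ext h6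
    · obtain ⟨k, hk⟩ := IsPGroup.iff_card.1 (PG.isPGroup_of_forall_mem (p := 5)
        (P := centralizer {(x : G)}) fun c hc => ⟨1, by
          simpa using h.pow_five (by rw [orderOf_coe, hx]) (mem_centralizer_singleton_iff.1 hc).symm⟩)
      have h6 := (card_subgroup_dvd_card (centralizer {(x : G)})).trans h1
      rw [hk] at h6 ⊢
      rcases k with _ | _ | k
      · norm_num
      · norm_num
      · exact absurd ((Dvd.intro_left (5 ^ k) (by ring) : 25 ∣ 5 ^ (k + 1 + 1)).trans h6) (by norm_num)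
  have hi : N.index = 2 := by omega
  by_cases h6 : ∃ g : G, orderOf g = 6
  · obtain ⟨g, hg⟩ := h6
    have h7 : g ^ 2 ∈ N := by rw [← hi]; exact pow_index_mem N g
    refine Local.nonempty_mulEquiv_S6 N hi e hC (t := g ^ 3) (x := g ^ 2) (fun h8 => ?_) h7
      (by rw [orderOf_pow, hg]; rfl) (by group)
    have h9 : g ∈ N := by simpa [pow_succ] using N.mul_mem h8 (N.inv_mem h7)
    exact a6_orderOf_ne_six (e ⟨g, h9⟩) (by rw [e.orderOf_eq, ← orderOf_coe, hg])
  · exfalso
    have hG : Nat.card G = 720 := by omega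
    rcases CITCor.cases_of_orderOf_le_five (G := G) (fun g => by
      have := h g
      have : orderOf g ≠ 6 := fun e => h6 ⟨g, e⟩
      omega) (by omega) (by omega) (by omega) with ⟨⟨f⟩⟩ | ⟨-, ⟨f⟩⟩
    · have := (Nat.card_congr f.toEquiv).trans card_A6
      omega
    · have h7 := (Nat.card_congr f.toEquiv).trans card_A5
      have h8 := card_eq_card_quotient_mul_card_subgroup (pCore 2 G)
      rw [h7, h2, card_bot] at h8
      omega

/-- Reduction to the simple case. -/
theorem concl_of_simple (hs : ∀ (G : Type u) [Group G] [Finite G] [IsSimpleGroup G], Six G →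
    ¬ Group.IsSolvable G → (∀ (H : Type u) [Group H] [Finite H], Nat.card H < Nat.card G → Six H →
      ¬ Group.IsSolvable H → Concl H) → Concl G)
    (G : Type u) [Group G] [Finite G] : Six G → ¬ Group.IsSolvable G → Concl G := by
  refine card_induction (P := fun G _ _ => Six G → ¬ Group.IsSolvable G → Concl G) ?_ G
  intro G _ _ ih h hG
  have := Fact.mk Nat.prime_two
  have := Fact.mk Nat.prime_three
  by_cases h2 : pCore 2 G = ⊥
  swap
  · exact h.concl_of_quotient (pCore_isPGroup 2 G) (ih _ (card_quotient_lt h2) (h.quotient _)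
      fun h1 => hG (Cor.isSolvable_of_normal_quotient _
        (Cor.isSolvable_of_isPGroup (pCore_isPGroup 2 G)) h1))
  have : Nontrivial G := by
    by_contra h1
    rw [not_nontrivial_iff_subsingleton] at h1
    exact hG inferInstance
  by_cases hsim : IsSimpleGroup G
  · exact hs G h hG ih
  obtain ⟨K, hK, hK0, hK1⟩ : ∃ K : Subgroup G, K.Normal ∧ K ≠ ⊥ ∧ K ≠ ⊤ := by
    by_contra h1
    push Not at h1
    exact hsim ⟨fun K hK => or_iff_not_imp_left.2 (h1 K hK)⟩
  obtain ⟨N, hN, hNK⟩ := exists_isMinNormal_le K hK0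
  have := hN.normal
  have hN1 : N ≠ ⊤ := fun e => hK1 (top_le_iff.1 (e ▸ hNK))
  by_cases hsol : Group.IsSolvable N
  · exfalso
    obtain ⟨p, hp, hc, -, hP⟩ := hN.elementary
    have := Fact.mk hp
    obtain ⟨x, hx, hxp⟩ := PG.exists_orderOf_eq_prime hP hN.ne_bot
    rcases h.prime_cases hp (hxp ▸ orderOf_dvd_natCard x) with rfl | rfl | rfl
    · exact hN.ne_bot (le_bot_iff.1 (h2 ▸ le_pCore inferInstance hP))
    · have hle : N ≤ centralizer (N : Set G) := fun v hv w hw =>
        congrArg Subtype.val (mul_comm' (⟨w, hw⟩ : N) ⟨v, hv⟩)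
      refine h.not_concl_three hP (ih _ (card_quotient_lt fun e => hN.ne_bot
        (le_bot_iff.1 (e ▸ hle))) (h.quotient _) fun h1 => hG
          (Cor.isSolvable_of_normal_quotient _ ?_ h1))
      have := h.isSolvable_centralizer (g := x) fun e => by
        rw [← orderOf_dvd_iff_pow_eq_one, hxp] at e
        omega
      exact Group.isSolvable_of_isSolvable_injective (inclusion_injective
        (centralizer_le (Set.singleton_subset_iff.2 hx)))
    · exact hG (h.isSolvable_of_five hP hN.ne_bot)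
  have hperf : commutator N = ⊤ := (hN.eq_bot_or_top_of_characteristic _).resolve_left fun e =>
    hsol (Group.isSolvable_of_comm fun a b => by
      rw [← commutatorElement_eq_one_iff_mul_comm, ← mem_bot, ← e]
      exact commutator_mem_commutator (mem_top _) (mem_top _))
  have hnp : ∀ n, (N ≃* Equiv.Perm (Fin (n + 2))) → False := fun n e =>
    commutator_perm_ne_top n (by
      have h1 := congrArg (Subgroup.map e.toMonoidHom) hperf
      rwa [_root_.commutator_def, map_commutator, map_top_of_surjective _ e.surjective] at h1)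
  rcases ih _ (card_lt_of_ne_top hN1) (h.subgroup N) hsol with ⟨⟨e⟩⟩ | ⟨⟨e⟩⟩ | ⟨⟨e⟩⟩ | ⟨f, hf, hk⟩
  · exact Or.inr (Or.inr (Or.inl (h.concl_of_A6 h2 hN1 e)))
  · exact (hnp 3 e).elim
  · exact (hnp 4 e).elim
  · have h1 : f.ker = ⊥ := by
      rw [ker_eq_pCore f hf hk, ← map_eq_bot_iff_of_injective _ N.subtype_injective, ← le_bot_iff,
        ← h2]
      exact le_pCore (normal_map_subtype_of_char _) ((pCore_isPGroup 2 N).map _)
    exact Or.inr (Or.inl (h.concl_of_A5 hN1
      (MulEquiv.ofBijective f ⟨(MonoidHom.ker_eq_bot_iff _).1 h1, hf⟩)))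

end Cfsg.Lib.Ord6
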