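import Cfsg.Agent.Six.Ext
import Cfsg.Agent.S0243
import Cfsg.Agent.S0246
import Cfsg.Agent.S0253
import Cfsg.Agent.S0280
import Cfsg.Agent.S0222
import Cfsg.Agent.Class.SpOrder
import Cfsg.Agent.Class.PGL2Sub
import Cfsg.Agent.Bender.Groups
import Cfsg.Agent.Spor.M24Sub
import Cfsg.Agent.Inst.NgMain

/-! The known simple groups with element orders at most six. -/

set_option autoImplicit false
set_option linter.unusedSectionVars false

namespace Cfsg.Lib.Ord6

open Subgroup Cfsg.Lib.Solv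
open scoped MatrixGroups

universe u

variable {G : Type u} [Group G] [Finite G]

theorem concl_of_equiv (e : G ≃* A5) : Concl G :=
  Or.inr (Or.inr (Or.inr ⟨e.toMonoidHom, e.surjective, by
    rw [(MonoidHom.ker_eq_bot_iff _).2 e.injective]; exact IsPGroup.of_bot⟩))

theorem Six.concl_psl2 (h : Six G) {F : Type*} [Field F] [Fintype F] (h4 : 4 ≤ Fintype.card F)
    (e : G ≃* PSL(2, F)) : Concl G := by
  obtain ⟨⟨x, -⟩, y, hy⟩ := CITCor.exists_orderOf_psl2 F
  have h1 := (h.of_equiv e) y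
  have h2 := Class.gcd_mul_card_PSL2 (F := F)
  rw [← Nat.card_congr e.toEquiv, Nat.card_eq_fintype_card (α := F)] at h2
  have h3 : Nat.gcd 2 (Fintype.card F - 1) ≤ 2 := Nat.gcd_le_left _ (by norm_num)
  have h5 : 0 < Nat.gcd 2 (Fintype.card F - 1) := Nat.gcd_pos_of_pos_left _ (by norm_num)
  have h6 : Fintype.card F ≤ 12 := by
    rw [hy] at h1
    generalize Nat.gcd 2 (Fintype.card F - 1) = d at *
    interval_cases d <;> omega
  have h7 := h.not_dvd (p := 7) (by norm_num) le_rfl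
  have h11 := h.not_dvd (p := 11) (by norm_num) (by norm_num)
  rw [hy] at h1
  generalize hq : Fintype.card F = q at *
  interval_cases q
  · obtain ⟨f⟩ := Cfsg.Agent.S0252.result hq
    exact concl_of_equiv (e.trans f)
  · obtain ⟨f⟩ := Cfsg.Agent.S0253.result hq
    exact concl_of_equiv (e.trans f)
  · norm_num at h1
  · norm_num at h2; omega
  · norm_num at h1
  · obtain ⟨f⟩ := Cfsg.Agent.S0254.result hq
    exact Or.inl ⟨e.trans f⟩
  · norm_num at h1
  · norm_num at h2; omega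
  · norm_num at h1

theorem Six.not_isSuzuki (h : Six G) : ¬ IsSuzuki G := by
  rintro ⟨-, m, hm, hc⟩
  have h1 : ∀ k, 2 ^ (2 * k + 1) % 15 = 2 ∨ 2 ^ (2 * k + 1) % 15 = 8 := fun k => by
    induction k with
    | zero => norm_num
    | succ k ih => rw [show 2 * (k + 1) + 1 = 2 * k + 1 + 2 by ring, pow_add]; omega
  have h2 : 8 ≤ 2 ^ (2 * m + 1) :=
    Nat.pow_le_pow_right (show 0 < 2 by norm_num) (show 3 ≤ 2 * m + 1 by omega)
  have h3 : 2 ∣ 2 ^ (2 * m + 1) := dvd_pow_self 2 (by omega)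
  have h4 := h1 m
  generalize 2 ^ (2 * m + 1) = q at *
  obtain ⟨p, hp, hd⟩ := Nat.exists_prime_and_dvd (show q - 1 ≠ 1 by omega)
  rcases h.prime_cases hp (hc ▸ hd.mul_left _) with rfl | rfl | rfl <;> omega

theorem Six.not_psu3 (h : Six G) {F : Type*} [Field F] [Fintype F] {q : ℕ}
    (hF : Fintype.card F = q ^ 2) (h3 : 3 ≤ q) (e : G ≃* PSU 3 F q) : False := by
  have h1 := Cfsg.Agent.S0280.result hF 3 (by norm_num)
  rw [← Nat.card_congr e.toEquiv] at h1
  simp only [Finset.prod_range_succ, Finset.prod_range_zero] at h1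
  norm_num at h1
  obtain ⟨r, rfl⟩ : ∃ r, q = r + 1 := ⟨q - 1, by omega⟩
  have h2 : Nat.gcd 3 (r + 1 + 1) * Nat.card G =
      (r + 1) ^ 3 * (((r + 1) ^ 2 - 1) * (r + 2)) * (r * r + r + 1) := by
    refine Nat.eq_of_mul_eq_mul_left (show 0 < r + 1 + 1 by omega) ?_
    rw [mul_left_comm, h1]; ring
  obtain ⟨p, hp, hd, hp3⟩ : ∃ p, p.Prime ∧ p ∣ r * r + r + 1 ∧ p ≠ 3 := by
    by_contra h4
    push Not at h4
    have h5 := Nat.eq_prime_pow_of_unique_prime_dvd (n := r * r + r + 1) (p := 3) (by omega)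
      fun hp hd => h4 _ hp hd
    generalize (r * r + r + 1).primeFactorsList.length = k at h5
    have h6 : ¬ 9 ∣ r * r + r + 1 := by
      rw [Nat.dvd_iff_mod_eq_zero, Nat.add_mod, Nat.add_mod (r * r), Nat.mul_mod]
      have : r % 9 < 9 := Nat.mod_lt _ (by norm_num)
      generalize r % 9 = s at *
      interval_cases s <;> norm_num
    have h7 : 2 * 2 ≤ r * r := Nat.mul_le_mul (by omega) (by omega)
    rcases k with _ | _ | k
    · omega
    · omega
    · exact h6 (h5 ▸ Dvd.intro_left (3 ^ k) (by ring))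
  have h4 : p ∣ Nat.card G := by
    rcases (Nat.Prime.dvd_mul hp).1 (h2 ▸ hd.mul_left _) with h5 | h5
    · exact absurd ((Nat.prime_dvd_prime_iff_eq hp Nat.prime_three).1
        (h5.trans (Nat.gcd_dvd_left _ _))) hp3
    · exact h5
  rcases h.prime_cases hp h4 with rfl | rfl | rfl
  · rw [Nat.dvd_iff_mod_eq_zero, Nat.add_mod, Nat.add_mod (r * r), Nat.mul_mod] at hd
    have : r % 2 < 2 := Nat.mod_lt _ (by norm_num)
    generalize r % 2 = s at *
    interval_cases s <;> norm_num at hd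
  · exact hp3 rfl
  · rw [Nat.dvd_iff_mod_eq_zero, Nat.add_mod, Nat.add_mod (r * r), Nat.mul_mod] at hd
    have : r % 5 < 5 := Nat.mod_lt _ (by norm_num)
    generalize r % 5 = s at *
    interval_cases s <;> norm_num at hd

theorem seven_dvd_psl3 {F : Type*} [Field F] [Fintype F] (hF : Fintype.card F = 4) :
    7 ∣ Nat.card PSL(3, F) := by
  have h1 := Cfsg.Agent.S0243.result hF 3 (by norm_num)
  simp only [Fin.prod_univ_three] at h1
  norm_num at h1
  omega

theorem seventeen_dvd_psp4 {F : Type*} [Field F] [Fintype F] (hF : Fintype.card F = 4) :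
    17 ∣ Nat.card (PSp 2 F) := by
  have h := card_eq_card_quotient_mul_card_subgroup (center (Matrix.symplecticGroup (Fin 2) F))
  rw [Agent.S0246.result hF 2 (by norm_num), Class.card_symplecticGroup, Class.spOrd, hF] at h
  simp only [Finset.prod_range_succ, Finset.prod_range_zero] at h
  norm_num at h
  exact ⟨57600, h.symm⟩

theorem Six.concl_of_locals [IsSimpleGroup G] (h : Six G) (hG : ¬ IsMulCommutative G)
    (hl : ∀ N : Subgroup G, IsTwoLocal N → Group.IsSolvable N) : Concl G := by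
  have h7 := h.not_dvd (p := 7) (by norm_num) le_rfl
  have h11 := h.not_dvd (p := 11) (by norm_num) (by norm_num)
  have h13 := h.not_dvd (p := 13) (by norm_num) (by norm_num)
  rcases Cfsg.Agent.Gate.NgMain.out hG hl with ⟨F, _, _, h4, ⟨e⟩⟩ | h1 | ⟨F, _, _, q, hF, -, h4, ⟨e⟩⟩ |
    ⟨⟨e⟩⟩ | ⟨F, _, _, hF, ⟨e⟩⟩ | ⟨⟨e⟩⟩ | ⟨⟨e⟩⟩ | ⟨h1, -⟩
  · exact h.concl_psl2 h4 e
  · exact absurd (Bender.isSuzuki_of_isoSuzuki h1) h.not_isSuzuki
  · exact (h.not_psu3 hF (by omega) e).elim
  · have h1 := Cfsg.Agent.S0243.result (F := ZMod 3) (ZMod.card 3) 3 (by norm_num)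
    rw [← Nat.card_congr e.toEquiv] at h1
    simp only [Fin.prod_univ_three] at h1
    norm_num at h1
    omega
  · exact (h.not_psu3 (q := 3) hF le_rfl e).elim
  · have h1 := Nat.card_congr e.toEquiv
    rw [nat_card_alternatingGroup] at h1
    simp [Nat.factorial] at h1
    omega
  · have h1 := (Nat.card_congr e.toEquiv).trans Spor.MP.card_M11
    omega
  · omega

theorem Six.concl_of_stronglyEmbedded [IsSimpleGroup G] (h : Six G) (hG : ¬ IsMulCommutative G)
    {H : Subgroup G} (hH : IsStronglyEmbedded H) : Concl G := by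
  rcases Cfsg.Agent.S0222.result (CITCor.exists_ne_comm_of_not hG) H hH with
    ⟨F, _, _, -, h4, ⟨e⟩⟩ | h1 | ⟨F, _, _, q, hF, -, h4, ⟨e⟩⟩
  · exact h.concl_psl2 h4 e
  · exact absurd h1 h.not_isSuzuki
  · exact (h.not_psu3 hF (by omega) e).elim

end Cfsg.Lib.Ord6
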