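import Cfsg.Agent.Six.Ext

/-! A non-solvable `2`-local subgroup of a minimal simple group with element orders at most six. -/

set_option autoImplicit false
set_option linter.unusedSectionVars false

namespace Cfsg.Lib.Ord6

open Subgroup Cfsg.Lib.Solv
open scoped Pointwise

universe u

variable {G : Type u} [Group G] [Finite G]

/-- The normaliser `M` of an elementary abelian `2`-subgroup `V` with `M / V` alternating of
degree five, in ambient terms. -/
structure Loc (M V : Subgroup G) : Prop where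
  six : Six G
  norm : normalizer (V : Set G) = M
  sq : ∀ v ∈ V, v * v = 1
  ne_bot : V ≠ ⊥
  cent : centralizer (V : Set G) ≤ V
  rel : ∀ P : Subgroup G, P ≤ M → IsPGroup 2 P → Nat.card P ≤ 4 * Nat.card (V ⊓ P : Subgroup G)
  card_M : Nat.card M = 60 * Nat.card V
  cs : ∀ t ∈ M, t ∉ V → t * t ∈ V →
    Nat.card (V ⊓ centralizer {t} : Subgroup G) ^ 2 = Nat.card V
  mod5 : Nat.card V % 5 = 1
  three : ∀ a ∈ M, ∀ b ∈ M, a ∉ V → b ∉ V → a * b ∉ V → a * a = 1 → b * b = 1 → a * b = b * a →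
    ∃ y ∈ M, y ^ 3 = 1 ∧ y * a * y⁻¹ * b⁻¹ ∈ V ∧ y * b * y⁻¹ * (a * b)⁻¹ ∈ V
  nc : ∀ y ∈ M, ∀ t ∈ M, y ^ 3 = 1 → y ≠ 1 → t ∉ V → t * t ∈ V → y * t * y⁻¹ * t⁻¹ ∉ V

theorem Concl.sixty_le {H : Type*} [Group H] [Finite H] (h : Concl H) : 60 ≤ Nat.card H := by
  rcases h with ⟨⟨e⟩⟩ | ⟨⟨e⟩⟩ | ⟨⟨e⟩⟩ | ⟨f, hf, -⟩
  · rw [Nat.card_congr e.toEquiv, card_A6]; norm_num
  · rw [Nat.card_congr e.toEquiv, card_S5]; norm_num
  · rw [Nat.card_congr e.toEquiv, card_S6]; norm_num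
  · rw [← card_A5]; exact Nat.card_le_card_of_surjective f hf

theorem sixteen_le {V : Subgroup G} (hV : IsPGroup 2 V) (h0 : V ≠ ⊥) (h5 : Nat.card V % 5 = 1) :
    16 ≤ Nat.card V := by
  have := Fact.mk Nat.prime_two
  obtain ⟨k, hk⟩ := IsPGroup.iff_card.1 hV
  have h1 := (one_lt_card_iff_ne_bot _).2 h0
  rw [hk] at h1 h5 ⊢
  by_contra h2
  have : k < 4 := (Nat.pow_lt_pow_iff_right (show 1 < 2 by norm_num)).1 (by omega)
  interval_cases k <;> omega

theorem loc_of_hom [IsSimpleGroup G] (h : Six G) {M : Subgroup G} (hM : IsCoatom M) (f : M →* A5)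
    (hf : Function.Surjective f) (hk : IsPGroup 2 f.ker) (h0 : f.ker ≠ ⊥) :
    Loc M (f.ker.map M.subtype) := by
  have := Fact.mk Nat.prime_two
  set V := f.ker.map M.subtype with hV
  have hM6 := h.subgroup M
  have hmem : ∀ {m : G} (hm : m ∈ M), m ∈ V ↔ f ⟨m, hm⟩ = 1 := fun {m} hm =>
    ⟨fun ⟨x, hx, e⟩ => by rw [← (Subtype.ext e : x = ⟨m, hm⟩)]; exact hx,
      fun e => ⟨⟨m, hm⟩, e, rfl⟩⟩
  have hVM : V ≤ M := map_subtype_le _
  have hV0 : V ≠ ⊥ := fun e => h0 ((map_eq_bot_iff_of_injective _ M.subtype_injective).1 e)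
  have hcV : Nat.card V = Nat.card f.ker := card_map_subtype _
  have hinv : ∀ t : M, f t * f t = 1 → f t ≠ 1 → ∃ x : M, orderOf x = 5 ∧ ∃ v ∈ f.ker,
      v * t * x * (v * t)⁻¹ = x⁻¹ := fun t h1 h2 => by
    obtain ⟨x, hx, e⟩ := a5_inv h1 h2
    obtain ⟨x, rfl⟩ := hf x
    have hx' := hM6.orderOf_of_map_five f hx
    exact ⟨x, hx', hM6.exists_inv (coprime_five_of_two hk) hx' (by simpa using e)⟩
  obtain ⟨a, b0, y0, ha, -⟩ := hasA4_A5
  obtain ⟨a, rfl⟩ := hf a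
  obtain ⟨x, hx, v, -, hv⟩ := hinv a ha.sq_a ha.a_ne
  have hsq : ∀ v ∈ V, v * v = 1 := by
    rintro _ ⟨w, hw, rfl⟩
    exact congrArg Subtype.val (hM6.mul_self_of_dihedral hk hx hv w hw)
  have hn : normalizer (V : Set G) = M := by
    refine (hM.le_iff.1 (le_normalizer_map_subtype f.ker)).resolve_left fun e => ?_
    rcases (normalizer_eq_top_iff.1 e).eq_bot_or_eq_top with h1 | h1
    · exact hV0 h1
    · exact hM.1 (top_le_iff.1 (h1 ▸ hVM))
  refine ⟨h, hn, hsq, hV0, fun c hc => ?_, fun P hP hP2 => ?_, ?_, fun t ht h1 h2 => ?_, ?_,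
    fun a ha b hb h1 h2 h3 h4 h5 h6 => ?_, fun y hy t ht h1 h2 h3 h4 h5 => ?_⟩
  · have hle : centralizer (V : Set G) ≤ M := hn ▸ centralizer_le_normalizer _
    have hK : ((centralizer (V : Set G)).subgroupOf M).Normal :=
      (normal_subgroupOf_iff_le_normalizer hle).2 (hn ▸ normalizer_le_normalizer_centralizer V)
    rcases (hK.map f hf).eq_bot_or_eq_top with h1 | h1
    · exact (hmem (hle hc)).2 ((Subgroup.map_eq_bot_iff _).1 h1
        (show (⟨c, hle hc⟩ : M) ∈ (centralizer (V : Set G)).subgroupOf M from hc))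
    · obtain ⟨z, hz⟩ := exists_five_A5
      obtain ⟨z, hz', rfl⟩ := (h1 ▸ mem_top z : z ∈ _)
      refine absurd (eq_bot_iff.2 fun w hw => ?_) hV0
      exact h.eq_one_of_five (x := z) (by rw [orderOf_coe, hM6.orderOf_of_map_five f hz])
        (hz' w hw).symm (n := 2) (by norm_num) (by rw [pow_two, hsq w hw])
  · rw [← card_inf_mul_relIndex V P, mul_comm]
    refine Nat.mul_le_mul_right _ ?_
    have h1 : V.subgroupOf M = f.ker := comap_map_eq_self_of_injective M.subtype_injective _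
    rw [← relIndex_subgroupOf hP, h1, relIndex_ker]
    obtain ⟨k, hk⟩ := IsPGroup.iff_card.1 ((hP2.comap_subtype (K := M)).map f)
    have h2 := card_subgroup_dvd_card ((P.subgroupOf M).map f)
    rw [card_A5] at h2
    change Nat.card ((P.subgroupOf M).map f) = _ at hk
    rw [hk] at h2 ⊢
    by_contra h3
    have h4 : 2 < k := (Nat.pow_lt_pow_iff_right (show 1 < 2 by norm_num)).1 (by omega)
    exact absurd ((pow_dvd_pow 2 h4).trans h2) (by norm_num)
  · rw [hcV, ← index_mul_card f.ker, index_ker, MonoidHom.range_eq_top.2 hf, card_top, card_A5]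
  · obtain ⟨x, hx, v, hv, e⟩ := hinv ⟨t, ht⟩ (by
      rw [← map_mul]; exact (hmem (M.mul_mem ht ht)).1 h2) fun e => h1 ((hmem ht).2 e)
    rw [hcV, ← hM6.card_centralizer_sq hk hx e, ← card_map_subtype (K := M)]
    congr 3
    have hvV : (v : G) ∈ V := mem_map_of_mem _ hv
    have h3 : ∀ w ∈ V, w * (v * t) = v * t * w ↔ w * t = t * w := fun w hw => by
      rw [← mul_assoc, comm_of_mul_self hsq hw hvV, mul_assoc, mul_assoc, mul_right_inj]
    ext w
    refine ⟨fun hw => ⟨⟨w, hVM hw.1⟩, ⟨(hmem _).1 hw.1, mem_centralizer_singleton_iff.2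
      (Subtype.ext ((h3 w hw.1).2 (mem_centralizer_singleton_iff.1 hw.2)))⟩, rfl⟩, ?_⟩
    rintro ⟨w, hw, rfl⟩
    exact ⟨mem_map_of_mem _ hw.1, mem_centralizer_singleton_iff.2 ((h3 w (mem_map_of_mem _ hw.1)).1
      (congrArg Subtype.val (mem_centralizer_singleton_iff.1 hw.2)))⟩
  · rw [hcV]; exact hM6.card_modEq_five (coprime_five_of_two hk) hx
  · have e1 : f ⟨a, ha⟩ * f ⟨a, ha⟩ = 1 := by rw [← map_mul, ← map_one f]; congr 1; exact Subtype.ext h4
    have e2 : f ⟨b, hb⟩ * f ⟨b, hb⟩ = 1 := by rw [← map_mul, ← map_one f]; congr 1; exact Subtype.ext h5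
    have e3 : f ⟨a, ha⟩ ≠ f ⟨b, hb⟩ := fun e => h3 ((hmem (M.mul_mem ha hb)).2 (by
      rw [← e2, ← e]; nth_rewrite 2 [e]; exact map_mul f ⟨a, ha⟩ ⟨b, hb⟩))
    obtain ⟨y, e4, e5, e6⟩ := a5_three e1 e2 (fun e => h1 ((hmem ha).2 e))
      (fun e => h2 ((hmem hb).2 e)) (by rw [← map_mul, ← map_mul]; congr 1; exact Subtype.ext h6) e3
    obtain ⟨y, rfl⟩ := hf y
    obtain ⟨e7, e8⟩ := hM6.exists_lift_three f e4 fun e => e3 (by rw [← e5, e]; simp)
    rw [← e8] at e5 e6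
    refine ⟨(y ^ 4 : M), (y ^ 4).2, congrArg Subtype.val e7, ?_, ?_⟩
    · exact mem_map_of_mem M.subtype (show y ^ 4 * ⟨a, ha⟩ * (y ^ 4)⁻¹ * (⟨b, hb⟩ : M)⁻¹ ∈ f.ker by
        rw [MonoidHom.mem_ker, map_mul, map_mul, map_mul, map_inv, map_inv, e5, mul_inv_cancel])
    · exact mem_map_of_mem M.subtype (show y ^ 4 * ⟨b, hb⟩ * (y ^ 4)⁻¹ *
        ((⟨a, ha⟩ : M) * ⟨b, hb⟩)⁻¹ ∈ f.ker by
        rw [MonoidHom.mem_ker, map_mul, map_mul, map_mul, map_inv, map_inv, e6, map_mul,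
          mul_inv_cancel])
  · have e1 : f ⟨y, hy⟩ = 1 := a5_nc (t := f ⟨t, ht⟩)
      (by rw [← map_mul]; exact (hmem (M.mul_mem ht ht)).1 h4) (fun e => h3 ((hmem ht).2 e))
      (commutatorElement_eq_one_iff_mul_comm.1 (by
        rw [← map_commutatorElement]; exact (hmem (hVM h5)).1 h5))
      (by rw [← map_pow, ← map_one f]; congr 1; exact Subtype.ext h1)
    have e2 := hsq y ((hmem hy).2 e1)
    exact h2 (by rw [← h1, pow_succ, pow_two, e2, one_mul])

theorem exists_loc [IsSimpleGroup G] (h : Six G)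
    (ih : ∀ (H : Type u) [Group H] [Finite H], Nat.card H < Nat.card G → Six H →
      ¬ Group.IsSolvable H → Concl H) {N : Subgroup G} (hN : IsTwoLocal N)
    (hs : ¬ Group.IsSolvable N) : ∃ M V : Subgroup G, Loc M V := by
  have := Fact.mk Nat.prime_two
  obtain ⟨P, hP, hP0, rfl⟩ := hN
  have hN1 : normalizer (P : Set G) ≠ ⊤ := fun e => by
    rcases (normalizer_eq_top_iff.1 e).eq_bot_or_eq_top with h1 | h1
    · exact hP0 h1
    · exact hs (Cor.isSolvable_of_isPGroup (hP.to_le (h1 ▸ le_top)))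
  obtain ⟨M, hM, hle⟩ := (eq_top_or_exists_le_coatom _).resolve_left hN1
  have h1 : 960 ≤ Nat.card M := by
    refine le_trans ?_ (card_le_of_le hle)
    set Q := P.subgroupOf (normalizer (P : Set G)) with hQ
    have hQ2 : IsPGroup 2 Q := hP.comap_subtype
    have hQ0 : Q ≠ ⊥ := fun e => hP0 (by rwa [hQ, subgroupOf_eq_bot, disjoint_iff,
      inf_eq_left.2 le_normalizer] at e)
    have h6 := h.subgroup (normalizer (P : Set G))
    obtain ⟨x, hx⟩ := h6.exists_five hs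
    have h2 := sixteen_le hQ2 hQ0 (h6.card_modEq_five (coprime_five_of_two hQ2) hx)
    have h3 := (ih _ ((card_quotient_lt hQ0).trans (card_lt_of_ne_top hN1)) (h6.quotient Q)
      fun h4 => hs (Cor.isSolvable_of_normal_quotient _ (Cor.isSolvable_of_isPGroup hQ2) h4)).sixty_le
    rw [card_eq_card_quotient_mul_card_subgroup Q]
    exact Nat.mul_le_mul h3 h2
  rcases ih M (card_lt_of_ne_top hM.1) (h.subgroup M) (fun h2 => hs
    (Group.isSolvable_of_isSolvable_injective (inclusion_injective hle))) with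
    ⟨⟨e⟩⟩ | ⟨⟨e⟩⟩ | ⟨⟨e⟩⟩ | ⟨f, hf, hk⟩
  · rw [Nat.card_congr e.toEquiv, card_A6] at h1; omega
  · rw [Nat.card_congr e.toEquiv, card_S5] at h1; omega
  · rw [Nat.card_congr e.toEquiv, card_S6] at h1; omega
  · refine ⟨M, _, loc_of_hom h hM f hf hk fun e => ?_⟩
    have := Nat.card_le_card_of_injective f ((MonoidHom.ker_eq_bot_iff _).1 e)
    rw [card_A5] at this
    omega

namespace Loc

variable {M V : Subgroup G}

theorem le (L : Loc M V) : V ≤ M := L.norm ▸ le_normalizer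

theorem two (L : Loc M V) : IsPGroup 2 V := isPGroup_of_mul_self L.sq

theorem comm (L : Loc M V) {a b : G} (ha : a ∈ V) (hb : b ∈ V) : a * b = b * a :=
  comm_of_mul_self L.sq ha hb

theorem conj_mem (L : Loc M V) {m v : G} (hm : m ∈ M) (hv : v ∈ V) : m * v * m⁻¹ ∈ V :=
  conj_mem_of_mem_normalizer (L.norm ▸ hm) hv

theorem sixteen (L : Loc M V) : 16 ≤ Nat.card V := sixteen_le L.two L.ne_bot L.mod5

theorem le_normalizer (L : Loc M V) {P : Subgroup G} (h : P ≤ M) : P ≤ normalizer (V : Set G) :=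
  L.norm ▸ h

theorem card_eq (L : Loc M V) {c : ℕ} (hc : c ^ 2 = Nat.card V) (h8 : c ≤ 8) :
    c = 4 ∧ Nat.card V = 16 := by
  have := Fact.mk Nat.prime_two
  have h1 := L.sixteen
  have h2 := L.mod5
  obtain ⟨k, hk⟩ := IsPGroup.iff_card.1 L.two
  have h3 : ¬ 3 ∣ Nat.card V := fun h =>
    absurd (Nat.prime_three.dvd_of_dvd_pow (hk ▸ h)) (by norm_num)
  rw [← hc] at h1 h2 h3 ⊢
  interval_cases c <;> omega

/-- An elementary abelian subgroup of `M` outside `V` meets `V` in the centraliser of an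
element. -/
theorem inf_le_cent (_ : Loc M V) {A : Subgroup G} (hA : ∀ a ∈ A, a * a = 1) {a : G} (ha : a ∈ A) :
    V ⊓ A ≤ V ⊓ centralizer {a} := fun _ hw =>
  ⟨hw.1, mem_centralizer_singleton_iff.2 (comm_of_mul_self hA hw.2 ha)⟩

theorem card_le (L : Loc M V) {P : Subgroup G} (hP : P ≤ M) (hP2 : IsPGroup 2 P) :
    Nat.card P ≤ 4 * Nat.card V :=
  (L.rel P hP hP2).trans (Nat.mul_le_mul_left _ (card_le_of_le inf_le_left))

end Loc

end Cfsg.Lib.Ord6
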