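import Mathlib.GroupTheory.Abelianization.Defs
import Mathlib.FieldTheory.KummerExtension
import Mathlib.FieldTheory.Finite.GaloisField
import Mathlib.GroupTheory.SemidirectProduct

/-!
# Central extensions of a field with an automorphism acting as a scalar: the order bound
-/

set_option autoImplicit false

namespace Cfsg.Lib.UnivSch

open Subgroup
open scoped commutatorElement

variable {K : Type*} [Field K] {ζ : K} {P : Type*} [Group P] {σ : MulAut P} {f : P → K}

/-- Multiplication by `ζ` is irreducible on the additive group. -/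
def Gen (ζ : K) : Prop := ∀ A : AddSubgroup K, (∀ x ∈ A, ζ * x ∈ A) → A = ⊥ ∨ A = ⊤

/-- A central extension of the additive group of `K` with an automorphism inducing `ζ`. -/
structure Pre (ζ : K) (σ : MulAut P) (f : P → K) : Prop where
  add : ∀ x y, f (x * y) = f x + f y
  eqv : ∀ x, f (σ x) = ζ * f x
  surj : Function.Surjective f
  cent : ∀ x, f x = 0 → x ∈ center P
  fix : ∀ x, f x = 0 → σ x = x

/-- The commutator of `P` with `σ`. -/
def R (σ : MulAut P) : Subgroup P := closure {g | ∃ x, g = x⁻¹ * σ x}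

theorem mem_R (σ : MulAut P) (x : P) : x⁻¹ * σ x ∈ R σ := subset_closure ⟨x, rfl⟩

theorem R_le {U : Subgroup P} (h : ∀ x, x⁻¹ * σ x ∈ U) : R σ ≤ U :=
  (closure_le _).2 (by rintro _ ⟨x, rfl⟩; exact h x)

theorem R_inv {τ : MulAut P} (h : ∀ x, τ (σ x) = σ (τ x)) : ∀ x ∈ R σ, τ x ∈ R σ :=
  R_le (U := (R σ).comap τ.toMonoidHom) fun x => by
    show τ _ ∈ R σ
    rw [map_mul, map_inv, h]; exact mem_R σ _

/-- Restriction of an automorphism. -/
noncomputable def res [Finite P] (σ : MulAut P) (U : Subgroup P) (hU : ∀ x ∈ U, σ x ∈ U) :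
    MulAut U :=
  MulEquiv.ofBijective ((σ.toMonoidHom.comp U.subtype).codRestrict U fun x => hU x x.2)
    (Finite.injective_iff_bijective.1 fun _ _ h =>
      Subtype.ext (σ.injective (congrArg Subtype.val h)))

theorem res_apply [Finite P] {U : Subgroup P} (hU : ∀ x ∈ U, σ x ∈ U) (x : U) :
    (res σ U hU x : P) = σ x := rfl

/-- The homomorphism given by an additive function. -/
def hom (f : P → K) (h : ∀ x y, f (x * y) = f x + f y) : P →* Multiplicative K :=
  MonoidHom.mk' (fun x => Multiplicative.ofAdd (f x)) fun x y =>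
    congrArg Multiplicative.ofAdd (h x y)

theorem add_one (h : ∀ x y, f (x * y) = f x + f y) : f 1 = 0 := map_one (hom f h)

theorem add_inv (h : ∀ x y, f (x * y) = f x + f y) (x : P) : f x⁻¹ = -f x := map_inv (hom f h) x

theorem add_comm (h : ∀ x y, f (x * y) = f x + f y) (x y : P) : f ⁅x, y⁆ = 0 := by
  simp only [commutatorElement_def, h, add_inv h]; ring

/-- The multipliers of an additive subgroup of a finite field. -/
def stab [Finite K] (S : AddSubgroup K) : Subfield K where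
  carrier := {c | ∀ s ∈ S, c * s ∈ S}
  mul_mem' := fun ha hb s hs => by rw [mul_assoc]; exact ha _ (hb s hs)
  one_mem' := fun s hs => by rwa [one_mul]
  add_mem' := fun ha hb s hs => by rw [add_mul]; exact add_mem (ha s hs) (hb s hs)
  zero_mem' := fun s _ => by rw [zero_mul]; exact zero_mem _
  neg_mem' := fun ha s hs => by rw [neg_mul]; exact neg_mem (ha s hs)
  inv_mem' := fun c hc s hs => by
    by_cases k : c = 0
    · rw [k, inv_zero, zero_mul]; exact zero_mem _
    · obtain ⟨t, ht⟩ := (Finite.injective_iff_surjective (f := fun t : S =>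
        (⟨c * t, hc t t.2⟩ : S))).1 (fun t u e => Subtype.ext
          (mul_left_cancel₀ k (congrArg Subtype.val e))) ⟨s, hs⟩
      rw [← show c * t = s from congrArg Subtype.val ht, inv_mul_cancel_left₀ k]
      exact t.2

namespace Pre

variable (h : Pre ζ σ f)
include h

theorem card : Nat.card P = Nat.card K * Nat.card (hom f h.add).ker := by
  rw [← (hom f h.add).ker.index_mul_card, index_ker,
    MonoidHom.range_eq_top.2 (show Function.Surjective (hom f h.add) from h.surj), card_top]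
  rfl

theorem exists_R (hζ : ζ ≠ 1) (k : K) : ∃ x ∈ R σ, f x = k := by
  obtain ⟨y, hy⟩ := h.surj (k / (ζ - 1))
  refine ⟨_, mem_R σ y, ?_⟩
  have := sub_ne_zero.2 hζ
  rw [h.add, add_inv h.add, h.eqv, hy]; field_simp; ring

theorem exists_mul (hζ : ζ ≠ 1) (x : P) : ∃ y ∈ R σ, ∃ z, f z = 0 ∧ x = y * z := by
  obtain ⟨y, hy, e⟩ := h.exists_R hζ (f x)
  exact ⟨y, hy, y⁻¹ * x, by rw [h.add, add_inv h.add, e, neg_add_cancel], by group⟩

theorem restrict [Finite P] (hζ : ζ ≠ 1) :
    Pre ζ (res σ (R σ) (R_inv fun _ => rfl)) (fun x => f x) ∧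
      R (res σ (R σ) (R_inv fun _ => rfl)) = ⊤ := by
  refine ⟨⟨fun x y => h.add x y, fun x => h.eqv x, fun k => ?_, fun x hx =>
    mem_center_iff.2 fun g => Subtype.ext (mem_center_iff.1 (h.cent x hx) g),
    fun x hx => Subtype.ext (h.fix x hx)⟩, ?_⟩
  · obtain ⟨x, hx, e⟩ := h.exists_R hζ k
    exact ⟨⟨x, hx⟩, e⟩
  · refine map_injective (R σ).subtype_injective (le_antisymm (map_mono le_top) ?_)
    rw [← MonoidHom.range_eq_map, range_subtype]
    refine R_le fun x => ?_
    obtain ⟨y, hy, z, hz, rfl⟩ := h.exists_mul hζ x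
    refine ⟨_, mem_R _ ⟨y, hy⟩, ?_⟩
    rw [map_mul σ, h.fix z hz, mul_inv_rev, ← mem_center_iff.1 (inv_mem (h.cent z hz)),
      mul_assoc, mem_center_iff.1 (h.cent z hz), inv_mul_cancel_left]
    rfl

theorem comm_mem_R (hζ : ζ ≠ 1) (x x' : P) : ⁅x, x'⁆ ∈ R σ := by
  obtain ⟨y, hy, z, hz, rfl⟩ := h.exists_mul hζ x
  obtain ⟨y', hy', z', hz', rfl⟩ := h.exists_mul hζ x'
  have : ⁅y * z, y' * z'⁆ = ⁅y, y'⁆ := by
    have e1 := mem_center_iff.1 (h.cent z hz)
    have e2 := mem_center_iff.1 (h.cent z' hz')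
    calc ⁅y * z, y' * z'⁆ = y * (z * (y' * z') * z⁻¹) * (y⁻¹ * z'⁻¹) * y'⁻¹ := by
          simp only [commutatorElement_def]; group
      _ = ⁅y, y'⁆ := by
          rw [← e1, mul_inv_cancel_right, mem_center_iff.1 (inv_mem (h.cent z' hz'))]
          simp only [commutatorElement_def]; group
  rw [this, commutatorElement_def]
  exact mul_mem (mul_mem (mul_mem hy hy') (inv_mem hy)) (inv_mem hy')

theorem mem_commutator [Finite P] (hR : R σ = ⊤) {z : P} (hz : f z = 0) :
    z ∈ _root_.commutator P := by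
  let δ : Abelianization P →* Abelianization P :=
    (MonoidHom.id _)⁻¹ * Abelianization.map σ.toMonoidHom
  have e : ∀ x, δ (Abelianization.of x) = Abelianization.of (x⁻¹ * σ x) := fun x => by
    rw [map_mul, map_inv]; rfl
  have hs : Function.Surjective δ := fun w => by
    obtain ⟨x, rfl⟩ := QuotientGroup.mk_surjective w
    exact R_le (U := δ.range.comap Abelianization.of) (fun x => ⟨_, e x⟩) (hR.ge (mem_top x))
  have : Finite (Abelianization P) := Finite.of_surjective _ QuotientGroup.mk_surjective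
  have := (injective_iff_map_eq_one δ).1 (Finite.injective_iff_surjective.2 hs)
    (Abelianization.of z) (by rw [e, h.fix z hz, inv_mul_cancel, map_one])
  exact (QuotientGroup.eq_one_iff z).1 this

theorem pow_eq_one (hR : R σ = ⊤) {q : ℕ} (hq : ζ ^ q = 1) : σ ^ q = 1 := by
  have e : ∀ n x, f ((σ ^ n) x) = ζ ^ n * f x := fun n => by
    induction n with
    | zero => simp
    | succ n ih => intro x; rw [pow_succ', MulAut.mul_apply, h.eqv, ih, pow_succ', mul_assoc]
  have e2 : ∀ x, f (x⁻¹ * (σ ^ q) x) = 0 := fun x => by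
    rw [h.add, add_inv h.add, e, hq, one_mul, neg_add_cancel]
  ext x
  refine R_le (U := (σ ^ q).toMonoidHom.eqLocus (MonoidHom.id P)) (fun x => ?_) (hR.ge (mem_top x))
  have e3 := h.fix _ (e2 x)
  rw [map_mul, map_inv, ← MulAut.mul_apply P σ (σ ^ q), ← pow_succ', pow_succ,
    MulAut.mul_apply] at e3
  show (σ ^ q) _ = x⁻¹ * σ x
  have e4 := mem_center_iff.1 (h.cent _ (e2 x)) (x⁻¹ * σ x)
  rw [map_mul, map_inv, ← mul_inv_cancel_left (σ x) ((σ ^ q) (σ x)), e3]
  calc ((σ ^ q) x)⁻¹ * (σ x * (x⁻¹ * (σ ^ q) x))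
      = (x⁻¹ * (σ ^ q) x)⁻¹ * ((x⁻¹ * σ x) * (x⁻¹ * (σ ^ q) x)) := by group
    _ = x⁻¹ * σ x := by rw [e4, inv_mul_cancel_left]

theorem comm_mul (x y g : P) : ⁅x * y, g⁆ = ⁅x, g⁆ * ⁅y, g⁆ := by
  have : ⁅x * y, g⁆ = x * ⁅y, g⁆ * x⁻¹ * ⁅x, g⁆ := by simp only [commutatorElement_def]; group
  rw [this, mem_center_iff.1 (h.cent _ (add_comm h.add y g)) x, mul_inv_cancel_right,
    mem_center_iff.1 (h.cent _ (add_comm h.add x g))]

theorem comm_congr {x y : P} (e : f x = f y) (g : P) : ⁅x, g⁆ = ⁅y, g⁆ := by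
  have := commutatorElement_eq_one_iff_mul_comm.2 (mem_center_iff.1
    (h.cent (y⁻¹ * x) (by rw [h.add, add_inv h.add, e, neg_add_cancel])) g).symm
  rw [← mul_inv_cancel_left y x, h.comm_mul, this, mul_one]

theorem exists_form : ∃ B : K → K → P, (∀ x y, ⁅x, y⁆ = B (f x) (f y)) ∧
    (∀ a b c, B (a + b) c = B a c * B b c) ∧ (∀ a b c, B a (b + c) = B a b * B a c) ∧
    (∀ a, B a a = 1) ∧ (∀ a b, B a b = (B b a)⁻¹) ∧ ∀ a b, B (ζ * a) (ζ * b) = B a b := by
  obtain ⟨s, hs⟩ := h.surj.hasRightInverse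
  have e : ∀ x y, ⁅x, y⁆ = ⁅s (f x), s (f y)⁆ := fun x y => by
    rw [h.comm_congr (hs (f x)), ← commutatorElement_inv (s (f y)), h.comm_congr (hs (f y)),
      commutatorElement_inv]
  have e1 : ∀ a b c, ⁅s (a + b), s c⁆ = ⁅s a, s c⁆ * ⁅s b, s c⁆ := fun a b c => by
    rw [← h.comm_mul]
    exact h.comm_congr (by rw [h.add, hs, hs, hs]) _
  refine ⟨fun a b => ⁅s a, s b⁆, e, e1, fun a b c => ?_, fun a => commutatorElement_self _,
    fun a b => (commutatorElement_inv _ _).symm, fun a b => ?_⟩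
  · show ⁅s a, s (b + c)⁆ = ⁅s a, s b⁆ * ⁅s a, s c⁆
    rw [← commutatorElement_inv, e1, mem_center_iff.1 (h.cent _ (add_comm h.add _ _)), mul_inv_rev,
      commutatorElement_inv, commutatorElement_inv]
  · have := e (σ (s a)) (σ (s b))
    rw [h.eqv, h.eqv, hs, hs, ← map_commutatorElement, h.fix _ (add_comm h.add _ _)] at this
    exact this.symm

theorem bound [Finite P] (hR : R σ = ⊤) (hg : Gen ζ) (h0 : ζ ≠ 0) :
    ∃ e n : ℕ, Nat.card K = e ^ n ∧ n ≤ 2 ∧ Nat.card P * e ≤ Nat.card K ^ 2 := by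
  have : Finite K := Finite.of_surjective f h.surj
  obtain ⟨B, b0, b1, b2, b3, b4, b5⟩ := h.exists_form
  have b6 : ∀ a, B a 0 = 1 := fun a => by simpa using b2 a 0 0
  have b7 : ∀ a b, B a (-b) = (B a b)⁻¹ := fun a b =>
    eq_inv_of_mul_eq_one_left (by rw [← b2, neg_add_cancel, b6])
  let L : Multiplicative K →* P := MonoidHom.mk' (fun b => B 1 b.toAdd) fun b c => b2 1 _ _
  have gen : ∀ A : AddSubgroup K, 1 ∈ A → (∀ x ∈ A, ζ * x ∈ A) → ∀ x, x ∈ A := fun A h1 h2 x =>
    ((hg A h2).resolve_left fun k => one_ne_zero (AddSubgroup.mem_bot.1 (k ▸ h1))).ge trivial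
  have k1 : ∀ a b, B a b ∈ L.range := gen
    { carrier := {a | ∀ b, B a b ∈ L.range}
      zero_mem' := fun b => by rw [b4, b6, inv_one]; exact one_mem _
      add_mem' := fun ha hb c => by rw [b1]; exact mul_mem (ha c) (hb c)
      neg_mem' := fun {a} ha c => by rw [b4, b7, inv_inv, b4]; exact inv_mem (ha c) }
    (fun b => ⟨b, rfl⟩) fun a ha b => by
      rw [← mul_inv_cancel_left₀ h0 b, b5]; exact ha _
  have k2 : Nat.card (hom f h.add).ker ≤ Nat.card L.range := card_le_of_le fun z hz =>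
    (commutator_le.2 fun x _ y _ => b0 x y ▸ k1 _ _ : _root_.commutator P ≤ L.range)
      (h.mem_commutator hR hz)
  let S : AddSubgroup K :=
    { carrier := {c | ∀ a, B a (c * a) = 1}
      zero_mem' := fun a => by rw [zero_mul, b6]
      add_mem' := fun ha hb c => by rw [add_mul, b2, ha, hb, one_mul]
      neg_mem' := fun {a} ha c => by rw [neg_mul, b7, ha, inv_one] }
  have hS : ∀ c ∈ S, (ζ + ζ⁻¹) * c ∈ S := fun c hc a => by
    have e1 := hc (ζ * a + a)
    rw [mul_add, b1, b2, b2, hc, hc, one_mul, mul_one] at e1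
    have e2 := b5 a (ζ⁻¹ * c * a)
    rw [← mul_assoc, ← mul_assoc, mul_inv_cancel₀ h0, one_mul] at e2
    rw [add_mul, add_mul, b2, ← e2, mul_comm ζ c, mul_assoc c, eq_inv_of_mul_eq_one_left e1,
      mul_inv_cancel]
  let E : Subfield K := stab S
  have k3 : Nat.card E ≤ Nat.card L.ker :=
    Nat.card_le_card_of_injective (fun c => ⟨Multiplicative.ofAdd c.1, by
      have := c.2 1 (fun a => by rw [one_mul, b3]) 1
      rwa [mul_one, mul_one] at this⟩) fun c d e =>
        Subtype.ext (congrArg (fun x : L.ker => x.1.toAdd) e)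
  have k4 : Nat.card L.range * Nat.card L.ker = Nat.card K := by
    rw [← index_ker, index_mul_card]; rfl
  have k5 : Nat.card K ≤ Nat.card E ^ 2 := by
    rw [sq, ← Nat.card_prod]
    refine Nat.card_le_card_of_surjective (fun c : E × E => c.1.1 + ζ * c.2.1) (gen
      { carrier := Set.range fun c : E × E => c.1.1 + ζ * c.2.1
        zero_mem' := ⟨0, by simp⟩
        add_mem' := by rintro _ _ ⟨c, rfl⟩ ⟨d, rfl⟩; exact ⟨c + d, by simp; ring⟩
        neg_mem' := by rintro _ ⟨c, rfl⟩; exact ⟨-c, by simp; ring⟩ } ⟨(1, 0), by simp⟩ ?_)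
    rintro _ ⟨c, rfl⟩
    refine ⟨(-c.2, c.1 + ⟨ζ + ζ⁻¹, hS⟩ * c.2), ?_⟩
    simp only [Subfield.coe_neg, Subfield.coe_add, Subfield.coe_mul]
    field_simp; ring
  have k6 := Module.natCard_eq_pow_finrank (K := E) (V := K)
  refine ⟨Nat.card E, _, k6, ?_, ?_⟩
  · exact (Nat.pow_le_pow_iff_right Finite.one_lt_card).1 (k6 ▸ k5)
  · rw [h.card, sq, mul_assoc]
    exact Nat.mul_le_mul_left _ (k4 ▸ Nat.mul_le_mul k2 k3)

end Pre

end Cfsg.Lib.UnivSch
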